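import Cfsg.Agent.RankOneClass.UniBound.Torus
import Cfsg.Agent.RankOneClass.ZField
import Cfsg.Agent.S1127

/-!
Stage D: an element of the stabiliser of the circle outside `Σ W` fixes few points of it.
-/

set_option autoImplicit false
set_option linter.unusedSectionVars false

open Subgroup MulAction
open scoped Pointwise

namespace Cfsg.Agent.RankOneClass.UniBound

open Cfsg.Agent.RankOne

universe u v

variable {G : Type u} {Ω : Type v} [Group G] [Finite G] [MulAction G Ω] {a : Ω} {t : G}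
  {Q : Subgroup G} (hC : Ctx G Ω a t Q) (hL : Lines G a t Q)

include hC

theorem mem_wGrp_iff_fix {g : G} : g ∈ wGrp G a t ↔ ∀ c ∈ line0 G a t, g • c = c := by
  constructor
  · intro hg c hc
    obtain ⟨hD, hz⟩ := hC.mem_wGrp.1 hg
    rcases Ctx.mem_line0.1 hc with rfl | ⟨z, hz', rfl⟩
    · exact (mem_twoPt.1 hD).1
    · rw [← mul_smul, (hz z hz').eq, mul_smul, (mem_twoPt.1 hD).2]
  · intro h
    have hD : g ∈ twoPt G a t := mem_twoPt.2 ⟨h a (Ctx.a_mem_line0 a t), h _ (Ctx.b_mem_line0 a t)⟩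
    refine hC.mem_wGrp.2 ⟨hD, fun z hz => ?_⟩
    have h1 : (g * z * g⁻¹) • (t • a) = z • (t • a) := by
      rw [mul_smul, mul_smul, (mem_twoPt.1 (inv_mem hD)).2]
      exact h _ (Ctx.mem_line0.2 (Or.inr ⟨z, hz, rfl⟩))
    exact mul_inv_eq_iff_eq_mul.1 (Q_smul_inj hC.setup (conj_mem_Q hC.setup (twoPt_le hD) (hC.zGrp_le hz))
      (hC.zGrp_le hz) (t_smul_ne hC.setup) h1)

/-- An element of `V` outside `W` has few fixed points on the circle. -/
theorem fixed_line0_le {v : G} (hv : v ∈ vGrp G a t) (hvW : v ∉ wGrp G a t) {f : ℕ} (hf : qq G a = 2 ^ f)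
    {S : Set Ω} (hS : ∀ c ∈ S, c ∈ line0 G a t ∧ v • c = c) :
    ∃ j : ℕ, 3 * j ≤ f ∧ S.ncard ≤ 2 ^ j + 1 := by
  haveI := finite_points hC.setup
  obtain ⟨s, r, h⟩ := hC.exists_link
  obtain ⟨F, _, _, hF, ⟨X⟩⟩ := hC.exists_zField h
  have hn := hC.card_centralizer_pow X hF hv
  obtain ⟨n, hndef⟩ : ∃ n, n = orderOf (X.aut v) := ⟨_, rfl⟩
  rw [← hndef] at hn
  have hn3 : 3 ≤ n := by
    have hdvd : n ∣ Nat.card (vGrp G a t) := by
      rw [hndef, show X.aut v = X.autHom ⟨v, hv⟩ from rfl]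
      exact (orderOf_map_dvd _ _).trans (orderOf_dvd_natCard _)
    obtain ⟨k, hk⟩ := hC.odd_vGrp.of_dvd_nat hdvd
    have h1 : n ≠ 1 := fun e => hvW ((X.aut_eq_one v hv).1 (orderOf_eq_one_iff.1 (hndef.symm.trans e)))
    omega
  set Z0 := zGrp G a ⊓ centralizer ({v} : Set G)
  obtain ⟨j, hjf, hj⟩ : ∃ j ≤ f, Nat.card Z0 = 2 ^ j := (Nat.dvd_prime_pow Nat.prime_two).1
    ((dvd_pow_self _ (by omega : n ≠ 0)).trans (dvd_of_eq (hn.trans hf)))
  refine ⟨j, ?_, ?_⟩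
  · rw [hj, ← pow_mul, hf] at hn
    have e := Nat.pow_right_injective le_rfl hn
    calc 3 * j ≤ n * j := Nat.mul_le_mul_right j hn3
      _ = f := by rw [mul_comm]; exact e
  · have hvD := Ctx.vGrp_le G a t hv
    have hsub : S ⊆ insert a ((fun z => z • (t • a)) '' (Z0 : Set G)) := by
      intro c hc
      obtain ⟨hc0, hfix⟩ := hS c hc
      rcases Ctx.mem_line0.1 hc0 with e | ⟨z, hz, rfl⟩
      · exact Or.inl e
      refine Or.inr ⟨z, mem_inf.2 ⟨hz, mem_centralizer_singleton_iff.2 ?_⟩, rfl⟩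
      refine (mul_inv_eq_iff_eq_mul.1 (Q_smul_inj hC.setup (conj_mem_Q hC.setup (twoPt_le hvD) (hC.zGrp_le hz))
        (hC.zGrp_le hz) (t_smul_ne hC.setup) ?_)).symm
      rw [mul_smul, mul_smul, (mem_twoPt.1 (inv_mem hvD)).2, hfix]
    refine (Set.ncard_le_ncard hsub).trans ((Set.ncard_insert_le _ _).trans ?_)
    rw [← hj]
    exact Nat.add_le_add_right
      ((Set.ncard_image_le (Set.toFinite _)).trans (le_of_eq (Nat.card_coe_set_eq _).symm)) 1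

/-- The elements `σ w`. -/
def sigW (_hC : Ctx G Ω a t Q) (hL : Lines G a t Q) : Subgroup G where
  carrier := {g | ∃ σ ∈ sigGrp G a t, ∃ w ∈ wGrp G a t, g = σ * w}
  one_mem' := ⟨1, one_mem _, 1, one_mem _, (one_mul 1).symm⟩
  mul_mem' := by
    rintro _ _ ⟨σ, hσ, w, hw, rfl⟩ ⟨σ', hσ', w', hw', rfl⟩
    refine ⟨σ * σ', mul_mem hσ hσ', w * w', mul_mem hw hw', ?_⟩
    have h := (hL.sig_comm σ' hσ' w hw).eq
    calc σ * w * (σ' * w') = σ * (w * σ') * w' := by group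
      _ = σ * (σ' * w) * w' := by rw [h]
      _ = σ * σ' * (w * w') := by group
  inv_mem' := by
    rintro _ ⟨σ, hσ, w, hw, rfl⟩
    refine ⟨σ⁻¹, inv_mem hσ, w⁻¹, inv_mem hw, ?_⟩
    rw [mul_inv_rev]
    exact ((hL.sig_comm σ⁻¹ (inv_mem hσ) w⁻¹ (inv_mem hw)).eq).symm

theorem mem_sigW_iff {g : G} :
    g ∈ sigW hC hL ↔ ∃ σ ∈ sigGrp G a t, ∃ w ∈ wGrp G a t, g = σ * w := Iff.rfl

include hL

theorem sig_le_sigW : sigGrp G a t ≤ sigW hC hL :=
  fun σ hσ => ⟨σ, hσ, 1, one_mem _, (mul_one σ).symm⟩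

theorem wGrp_le_sigW : wGrp G a t ≤ sigW hC hL :=
  fun w hw => ⟨1, one_mem _, w, hw, (one_mul w).symm⟩

theorem sigW_unique {σ σ' w w' : G} (hσ : σ ∈ sigGrp G a t) (hσ' : σ' ∈ sigGrp G a t)
    (hw : w ∈ wGrp G a t) (hw' : w' ∈ wGrp G a t) (h : σ * w = σ' * w') : σ = σ' ∧ w = w' := by
  have e : σ'⁻¹ * σ = w' * w⁻¹ := by
    calc σ'⁻¹ * σ = σ'⁻¹ * (σ * w) * w⁻¹ := by group
      _ = _ := by rw [h]; group
  have h1 := hL.sig_faithful _ (mul_mem (inv_mem hσ') hσ)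
    ((mem_wGrp_iff_fix hC).1 (e ▸ mul_mem hw' (inv_mem hw)))
  obtain rfl := (inv_mul_eq_one.1 h1).symm
  exact ⟨rfl, mul_left_cancel h⟩

theorem conj_sigW {g : G} (hg : g • line0 G a t = line0 G a t) :
    ∀ x ∈ sigW hC hL, g * x * g⁻¹ ∈ sigW hC hL := by
  rintro _ ⟨σ, hσ, w, hw, rfl⟩
  have h1 : g * σ * g⁻¹ ∈ sigGrp G a t := by
    have := conj_mem_lineGrp g (M := line0 G a t) ((lineGrp_line0 hC hL).symm ▸ hσ)
    rw [hg, lineGrp_line0 hC hL] at this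
    exact this
  have h2 : g * w * g⁻¹ ∈ wGrp G a t := (mem_wGrp_iff_fix hC).2 fun c hc => by
    rw [mul_smul, mul_smul, (mem_wGrp_iff_fix hC).1 hw (g⁻¹ • c)
      (Set.mem_smul_set_iff_inv_smul_mem.1 (hg.symm ▸ hc)), smul_inv_smul]
  exact ⟨_, h1, _, h2, by group⟩

/-- An element fixing three points of the circle and outside `Σ W` moves all but few of them. -/
theorem fixed_three_le {c : G} (hc : c • line0 G a t = line0 G a t) (hcW : c ∉ sigW hC hL) {f : ℕ}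
    (hf : qq G a = 2 ^ f) {S : Set Ω} (hS : ∀ p ∈ S, p ∈ line0 G a t ∧ c • p = p) (h3 : 3 ≤ S.ncard) :
    ∃ j : ℕ, 3 * j ≤ f ∧ S.ncard ≤ 2 ^ j + 1 := by
  haveI := finite_points hC.setup
  obtain ⟨x, hx⟩ : S.Nonempty := Set.nonempty_of_ncard_ne_zero (by omega)
  obtain ⟨y, hy, hyx⟩ := Set.exists_ne_of_one_lt_ncard (show 1 < S.ncard by omega) x
  obtain ⟨z0, hz0, hz0x⟩ := Set.exists_mem_notMem_of_ncard_lt_ncard (s := {x, y}) (t := S)
    ((Set.ncard_insert_le _ _).trans_lt (by rw [Set.ncard_singleton]; omega))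
  obtain ⟨σ, hσ, e1, e2⟩ := exists_sig_pair hC hL (hS x hx).1 (hS y hy).1 hyx.symm
  obtain ⟨z, hz, e3⟩ := (Ctx.mem_line0.1 (smul_mem_line0 hC hL hσ (hS z0 hz0).1)).resolve_left
    (fun e => hz0x (Or.inl (MulAction.injective σ (e.trans e1.symm))))
  have hz1 : z ≠ 1 := fun e => by
    rw [e, one_smul] at e3
    exact hz0x (Or.inr (MulAction.injective σ (e3.symm.trans e2.symm)))
  obtain ⟨s, r, h⟩ := hC.exists_link
  obtain ⟨k, hk, hkz⟩ := hC.exists_kGrp_conj (subset_closure h.1) h.1.2.1 hz hz1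
  have hkS : k ∈ sigGrp G a t := by
    rw [← SetLike.mem_coe, hC.coe_sigGrp h (hL.link_mem s r h)]
    exact ⟨1, one_mem _, k, hk, Or.inl (one_mul k).symm⟩
  obtain ⟨g, hg⟩ : ∃ g, g = k⁻¹ * σ := ⟨_, rfl⟩
  have hgS : g ∈ sigGrp G a t := hg ▸ mul_mem (inv_mem hkS) hσ
  have hfix : ∀ p : Ω, c • p = p → (g * c * g⁻¹) • g • p = g • p := fun p hp => by
    rw [mul_smul, mul_smul, inv_smul_smul, hp]
  have hkD := mem_twoPt.1 (inv_mem (Ctx.kGrp_le G a t hk))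
  have hkD' := mem_twoPt.1 (Ctx.kGrp_le G a t hk)
  have hga : g • x = a := by rw [hg, mul_smul, e1, hkD.1]
  have hgb : g • y = t • a := by rw [hg, mul_smul, e2, hkD.2]
  have hgz : g • z0 = s • (t • a) := by
    rw [hg, mul_smul, ← e3, ← hkz, mul_smul, mul_smul, inv_smul_smul, hkD.2]
  have hvD : g * c * g⁻¹ ∈ twoPt G a t := mem_twoPt.2
    ⟨by have := hfix x (hS x hx).2; rwa [hga] at this, by have := hfix y (hS y hy).2; rwa [hgb] at this⟩
  have hvs : (g * c * g⁻¹) ∈ centralizer ({s} : Set G) := by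
    have h1 := hfix z0 (hS z0 hz0).2
    rw [hgz] at h1
    have hsQ := mem_I_Q hC.setup h.1
    refine mem_centralizer_singleton_iff.2 (mul_inv_eq_iff_eq_mul.1 (Q_smul_inj hC.setup
      (conj_mem_Q hC.setup (twoPt_le hvD) hsQ) hsQ (t_smul_ne hC.setup) ?_))
    generalize g * c * g⁻¹ = w at hvD h1 ⊢
    rw [mul_smul, mul_smul, (mem_twoPt.1 (inv_mem hvD)).2, h1]
  have hv : g * c * g⁻¹ ∈ vGrp G a t := by
    have := (Cfsg.Agent.S1127.result hC.setup).1 s r h.1 h.2.1 h.2.2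
    exact this.symm.le (mem_inf.2 ⟨hvD, hvs⟩)
  have hvW : g * c * g⁻¹ ∉ wGrp G a t := fun hw => hcW (by
    have := conj_sigW hC hL (hL.sig_line _ (inv_mem hgS)) _ (wGrp_le_sigW hC hL hw)
    rwa [inv_inv, show g⁻¹ * (g * c * g⁻¹) * g = c by group] at this)
  obtain ⟨j, hj, hle⟩ := fixed_line0_le hC hv hvW hf (S := (fun p => g • p) '' S) (by
    rintro _ ⟨p, hp, rfl⟩
    exact ⟨smul_mem_line0 hC hL hgS (hS p hp).1, hfix p (hS p hp).2⟩)
  rw [Set.ncard_image_of_injective _ (MulAction.injective g)] at hle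
  exact ⟨j, hj, hle⟩

end Cfsg.Agent.RankOneClass.UniBound
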