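import Cfsg.Agent.RankOneClass.Residual
import Cfsg.Agent.RankOneClass.Sigma
import Cfsg.Agent.S1121

/-!
Stage D: lines of the unital, and the group generated by the involutions with centre on a line.
-/

set_option autoImplicit false
set_option linter.unusedSectionVars false

open Subgroup MulAction
open scoped Pointwise

namespace Cfsg.Agent.RankOneClass.UniBound

open Cfsg.Agent.RankOne

universe u v

variable {G : Type u} {Ω : Type v} [Group G] [MulAction G Ω] {a : Ω} {t : G} {Q : Subgroup G}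

/-- A translate of the circle. -/
def IsLine (a : Ω) (t : G) (M : Set Ω) : Prop := ∃ g : G, g • line0 G a t = M

/-- The group generated by the involutions with centre in `M`. -/
def lineGrp (G : Type u) [Group G] [MulAction G Ω] (M : Set Ω) : Subgroup G :=
  closure {u | u * u = 1 ∧ u ≠ 1 ∧ ∃ c ∈ M, u • c = c}

theorem invol_mem_lineGrp {M : Set Ω} {u : G} (h2 : u * u = 1) (h1 : u ≠ 1) {c : Ω} (hc : c ∈ M)
    (hfix : u • c = c) : u ∈ lineGrp G M :=
  subset_closure ⟨h2, h1, c, hc, hfix⟩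

theorem conj_mem_lineGrp (g : G) {M : Set Ω} {x : G} (hx : x ∈ lineGrp G M) :
    g * x * g⁻¹ ∈ lineGrp G (g • M) := by
  suffices h : lineGrp G M ≤ (lineGrp G (g • M)).comap (MulAut.conj g).toMonoidHom from h hx
  refine (closure_le _).2 ?_
  rintro u ⟨h2, h1, c, hc, hfix⟩
  refine invol_mem_lineGrp (c := g • c) ?_ ?_ (Set.smul_mem_smul_set hc) ?_
  · show g * u * g⁻¹ * (g * u * g⁻¹) = 1
    rw [show g * u * g⁻¹ * (g * u * g⁻¹) = g * (u * u) * g⁻¹ by group, h2, mul_one, mul_inv_cancel]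
  · show g * u * g⁻¹ ≠ 1
    rwa [ne_eq, conj_eq_one_iff]
  · show (g * u * g⁻¹) • g • c = g • c
    rw [mul_smul, mul_smul, inv_smul_smul, hfix]

theorem lineGrp_smul {g : G} {M : Set Ω} {x : G} :
    x ∈ lineGrp G (g • M) ↔ g⁻¹ * x * g ∈ lineGrp G M := by
  constructor
  · intro h
    have := conj_mem_lineGrp g⁻¹ h
    rwa [inv_smul_smul, inv_inv] at this
  · intro h
    have := conj_mem_lineGrp g h
    rwa [show g * (g⁻¹ * x * g) * g⁻¹ = x by group] at this

/-- Fixed-point-free elements. -/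
def Fpf (Ω : Type v) [MulAction G Ω] (x : G) : Prop := ∀ p : Ω, x • p ≠ p

theorem Fpf.conj {x : G} (hx : Fpf Ω x) (g : G) : Fpf Ω (g * x * g⁻¹) := by
  intro p h
  rw [mul_smul, mul_smul, smul_eq_iff_eq_inv_smul] at h
  exact hx _ h

theorem Fpf.ne_one {x : G} (hx : Fpf Ω x) (p : Ω) : x ≠ 1 := fun e => hx p (by rw [e, one_smul])

section

variable [Finite G]

theorem exists_fix_in (hC : Ctx G Ω a t Q) {u : G} (h2 : u * u = 1) {M : Set Ω} (hM : u • M = M)
    (hodd : Odd M.ncard) : ∃ c ∈ M, u • c = c := by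
  haveI := finite_points hC.setup
  by_cases h1 : u = 1
  · obtain ⟨c, hc⟩ : M.Nonempty := Set.nonempty_of_ncard_ne_zero (by
      intro h; rw [h] at hodd; exact absurd hodd (by decide))
    exact ⟨c, hc, by rw [h1, one_smul]⟩
  let H : SubMulAction (zpowers u) Ω :=
    { carrier := M
      smul_mem' := by
        rintro ⟨g, hg⟩ c hc
        have hst : g ∈ MulAction.stabilizer G M :=
          zpowers_le.2 (mem_stabilizer_iff.2 hM) hg
        show g • c ∈ M
        rw [← mem_stabilizer_iff.1 hst]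
        exact Set.smul_mem_smul_set hc }
  haveI : Fact (Nat.Prime 2) := ⟨Nat.prime_two⟩
  have hP : IsPGroup 2 (zpowers u) := IsPGroup.of_card (n := 1) (by
    rw [Nat.card_zpowers, pow_one]; exact orderOf_eq_prime (by rw [pow_two, h2]) h1)
  obtain ⟨c, hc⟩ := hP.nonempty_fixed_point_of_prime_not_dvd_card (α := H) (by
    show ¬ 2 ∣ Nat.card ↥M
    rw [Nat.card_coe_set_eq]; exact fun h => by obtain ⟨k, hk⟩ := hodd; omega)
  exact ⟨c, c.2, congrArg Subtype.val (hc ⟨u, mem_zpowers u⟩)⟩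

theorem ncard_line0_odd (hC : Ctx G Ω a t Q) : Odd (line0 G a t).ncard := by
  rw [hC.ncard_line0]
  obtain ⟨f, hf, e⟩ := hC.exists_qq_pow
  rw [e]
  exact (Nat.even_pow.2 ⟨even_two, by omega⟩).add_one

variable (hC : Ctx G Ω a t Q) (hL : Lines G a t Q)
include hC hL

theorem smul_mem_line0 {g : G} (hg : g ∈ sigGrp G a t) {c : Ω} (hc : c ∈ line0 G a t) :
    g • c ∈ line0 G a t := by
  rw [← hL.sig_line g hg]; exact Set.smul_mem_smul_set hc

theorem exists_sig_to_a {c : Ω} (hc : c ∈ line0 G a t) : ∃ σ ∈ sigGrp G a t, σ • c = a := by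
  rcases Ctx.mem_line0.1 hc with rfl | ⟨z, hz, rfl⟩
  · exact ⟨1, one_mem _, one_smul _ _⟩
  · refine ⟨t * z⁻¹, mul_mem (mem_sup_right (subset_closure rfl)) (inv_mem (mem_sup_left hz)), ?_⟩
    rw [mul_smul, inv_smul_smul, t_smul_smul hC.setup]

theorem exists_sig_pair {b c : Ω} (hb : b ∈ line0 G a t) (hc : c ∈ line0 G a t) (hbc : b ≠ c) :
    ∃ σ ∈ sigGrp G a t, σ • b = a ∧ σ • c = t • a := by
  obtain ⟨σ, hσ, hσb⟩ := exists_sig_to_a hC hL hb
  rcases Ctx.mem_line0.1 (smul_mem_line0 hC hL hσ hc) with e | ⟨z, hz, e⟩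
  · exact absurd (MulAction.injective σ (hσb.trans e.symm)) hbc
  · refine ⟨z⁻¹ * σ, mul_mem (inv_mem (mem_sup_left hz)) hσ, ?_, ?_⟩
    · rw [mul_smul, hσb]; exact smul_a_of_mem_Q hC.setup (inv_mem (hC.zGrp_le hz))
    · rw [mul_smul, ← e, inv_smul_smul]

theorem twoPt_line0 {d : G} (hd : d ∈ twoPt G a t) : d • line0 G a t = line0 G a t := by
  haveI := finite_points hC.setup
  refine Set.eq_of_subset_of_ncard_le ?_ (by rw [Set.ncard_smul_set])
  rintro _ ⟨c, hc, rfl⟩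
  exact hC.kGrp_smul_line0 hd hc

/-- The stabiliser of the circle is `Σ D`. -/
theorem exists_sig_twoPt {g : G} (hg : g • line0 G a t = line0 G a t) :
    ∃ σ ∈ sigGrp G a t, σ * g ∈ twoPt G a t := by
  obtain ⟨σ, hσ, h1, h2⟩ := exists_sig_pair hC hL (b := g • a) (c := g • (t • a))
    (hg ▸ Set.smul_mem_smul_set (Ctx.a_mem_line0 a t))
    (hg ▸ Set.smul_mem_smul_set (Ctx.b_mem_line0 a t))
    (fun e => t_smul_ne hC.setup (MulAction.injective g e).symm)
  exact ⟨σ, hσ, mem_twoPt.2 ⟨by rw [mul_smul, h1], by rw [mul_smul, h2]⟩⟩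

theorem line_eq_line0 {g : G} (ha : a ∈ g • line0 G a t) (hb : t • a ∈ g • line0 G a t) :
    g • line0 G a t = line0 G a t := by
  rw [Set.mem_smul_set_iff_inv_smul_mem] at ha hb
  obtain ⟨σ, hσ, h1, h2⟩ := exists_sig_pair hC hL ha hb
    (fun e => t_smul_ne hC.setup (MulAction.injective g⁻¹ e).symm)
  have hd : σ * g⁻¹ ∈ twoPt G a t := mem_twoPt.2 ⟨by rw [mul_smul, h1], by rw [mul_smul, h2]⟩
  calc g • line0 G a t = g • σ⁻¹ • line0 G a t := by rw [hL.sig_line _ (inv_mem hσ)]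
    _ = (σ * g⁻¹)⁻¹ • line0 G a t := by rw [smul_smul, mul_inv_rev, inv_inv]
    _ = line0 G a t := twoPt_line0 hC hL (inv_mem hd)

theorem exists_line (b c : Ω) (hbc : b ≠ c) : ∃ M, IsLine a t M ∧ b ∈ M ∧ c ∈ M := by
  obtain ⟨g, hga, hgb⟩ := exists_smul_pair hC.setup (t_smul_ne hC.setup).symm hbc
  exact ⟨_, ⟨g, rfl⟩, hga ▸ Set.smul_mem_smul_set (Ctx.a_mem_line0 a t),
    hgb ▸ Set.smul_mem_smul_set (Ctx.b_mem_line0 a t)⟩

/-- Two points lie on at most one line. -/
theorem line_unique {b c : Ω} (hbc : b ≠ c) {M M' : Set Ω} (hM : IsLine a t M) (hM' : IsLine a t M')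
    (hbM : b ∈ M) (hcM : c ∈ M) (hbM' : b ∈ M') (hcM' : c ∈ M') : M = M' := by
  obtain ⟨g, rfl⟩ := hM
  obtain ⟨g', rfl⟩ := hM'
  rw [Set.mem_smul_set_iff_inv_smul_mem] at hbM hcM
  obtain ⟨σ, hσ, h1, h2⟩ := exists_sig_pair hC hL hbM hcM
    (fun e => hbc (MulAction.injective g⁻¹ e))
  have h := line_eq_line0 hC hL (g := σ * g⁻¹ * g')
    (by
      have h' : σ • g⁻¹ • b ∈ σ • g⁻¹ • g' • line0 G a t := Set.smul_mem_smul_set (Set.smul_mem_smul_set hbM')
      rw [h1] at h'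
      rwa [mul_smul, mul_smul])
    (by
      have h' : σ • g⁻¹ • c ∈ σ • g⁻¹ • g' • line0 G a t := Set.smul_mem_smul_set (Set.smul_mem_smul_set hcM')
      rw [h2] at h'
      rwa [mul_smul, mul_smul])
  rw [mul_smul, mul_smul, smul_eq_iff_eq_inv_smul, hL.sig_line _ (inv_mem hσ), inv_smul_eq_iff] at h
  exact h.symm

theorem ncard_line {M : Set Ω} (hM : IsLine a t M) : M.ncard = qq G a + 1 := by
  obtain ⟨g, rfl⟩ := hM
  rw [Set.ncard_smul_set, hC.ncard_line0]

theorem lineGrp_line0 : lineGrp G (line0 G a t) = sigGrp G a t := by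
  refine le_antisymm ((closure_le _).2 ?_) (sup_le (fun z hz => ?_) ((closure_le _).2 ?_))
  · rintro u ⟨h2, h1, c, hc, hfix⟩
    obtain ⟨σ, hσ, hσc⟩ := exists_sig_to_a hC hL hc
    have hz : σ * u * σ⁻¹ ∈ zGrp G a := subset_closure (conj_mem_I hC.setup h2 h1 hσc hfix)
    have : u = σ⁻¹ * (σ * u * σ⁻¹) * σ := by group
    rw [SetLike.mem_coe, this]
    exact mul_mem (mul_mem (inv_mem hσ) (mem_sup_left hz)) hσ
  · by_cases hz1 : z = 1
    · rw [hz1]; exact one_mem _
    exact invol_mem_lineGrp (hC.zGrp_sq hz) hz1 (Ctx.a_mem_line0 a t)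
      (smul_a_of_mem_Q hC.setup (hC.zGrp_le hz))
  · intro x hx
    rw [Set.mem_singleton_iff] at hx
    subst hx
    obtain ⟨c, hc, hfix⟩ := exists_fix_in hC hC.setup.mul_self
      (hL.sig_line _ (mem_sup_right (subset_closure rfl))) (ncard_line0_odd hC)
    exact invol_mem_lineGrp hC.setup.mul_self hC.setup.ne_one hc hfix

theorem lineGrp_line {g : G} {x : G} :
    x ∈ lineGrp G (g • line0 G a t) ↔ g⁻¹ * x * g ∈ sigGrp G a t := by
  rw [lineGrp_smul, lineGrp_line0 hC hL]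

theorem lineGrp_smul_self {M : Set Ω} (hM : IsLine a t M) {x : G} (hx : x ∈ lineGrp G M) :
    x • M = M := by
  obtain ⟨g, rfl⟩ := hM
  have := hL.sig_line _ ((lineGrp_line hC hL).1 hx)
  calc x • g • line0 G a t = g • (g⁻¹ * x * g) • line0 G a t := by rw [smul_smul, smul_smul]; congr 1; group
    _ = g • line0 G a t := by rw [this]

theorem lineGrp_centre {M : Set Ω} (hM : IsLine a t M) {u : G} (hu : u ∈ lineGrp G M) (h2 : u * u = 1) :
    ∃ c ∈ M, u • c = c :=
  exists_fix_in hC h2 (lineGrp_smul_self hC hL hM hu) (by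
    rw [ncard_line hC hL hM, ← hC.ncard_line0]; exact ncard_line0_odd hC)

theorem lineGrp_free {M : Set Ω} (hM : IsLine a t M) {x : G} (hx : x ∈ lineGrp G M) {p : Ω}
    (hp : p ∉ M) (hfix : x • p = p) : x = 1 := by
  obtain ⟨g, rfl⟩ := hM
  have h1 := hL.sig_free _ ((lineGrp_line hC hL).1 hx) (g⁻¹ • p)
    (fun h => hp (Set.mem_smul_set_iff_inv_smul_mem.2 h))
    (by rw [mul_smul, mul_smul, smul_inv_smul, hfix])
  calc x = g * (g⁻¹ * x * g) * g⁻¹ := by group
    _ = 1 := by rw [h1]; group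

/-- An element of `Σ` fixing three points of the circle is trivial. -/
theorem sig_three {σ : G} (hσ : σ ∈ sigGrp G a t) {b c d : Ω} (hb : b ∈ line0 G a t)
    (hc : c ∈ line0 G a t) (hbc : b ≠ c) (hbd : b ≠ d) (hcd : c ≠ d)
    (h1 : σ • b = b) (h2 : σ • c = c) (h3 : σ • d = d) : σ = 1 := by
  obtain ⟨s, r, h⟩ := hC.exists_link
  obtain ⟨τ, hτ, e1, e2⟩ := exists_sig_pair hC hL hb hc hbc
  have hfix : ∀ p : Ω, σ • p = p → (τ * σ * τ⁻¹) • τ • p = τ • p := fun p hp => by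
    rw [mul_smul, mul_smul, inv_smul_smul, hp]
  have hk := hC.sig_twoPt h (hL.link_mem s r h) (mul_mem (mul_mem hτ hσ) (inv_mem hτ))
    (mem_twoPt.2 ⟨by have := hfix b h1; rwa [e1] at this, by have := hfix c h2; rwa [e2] at this⟩)
  have h4 := Residual.kGrp_free hC hk (c := τ • d) (fun e => hbd (MulAction.injective τ (e1.trans e.symm)))
    (fun e => hcd (MulAction.injective τ (e2.trans e.symm))) (hfix d h3)
  exact (conj_eq_one_iff.1 h4)

theorem lineGrp_three {M : Set Ω} (hM : IsLine a t M) {x : G} (hx : x ∈ lineGrp G M) {b c d : Ω}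
    (hbc : b ≠ c) (hbd : b ≠ d) (hcd : c ≠ d) (h1 : x • b = b) (h2 : x • c = c) (h3 : x • d = d) :
    x = 1 := by
  by_contra hne
  have hmem : ∀ p, x • p = p → p ∈ M := fun p hp => by_contra fun h => hne (lineGrp_free hC hL hM hx h hp)
  obtain ⟨g, rfl⟩ := hM
  have hfix : ∀ p : Ω, x • p = p → (g⁻¹ * x * g) • g⁻¹ • p = g⁻¹ • p := fun p hp => by
    rw [mul_smul, mul_smul, smul_inv_smul, hp]
  have h4 := sig_three hC hL ((lineGrp_line hC hL).1 hx) (Set.mem_smul_set_iff_inv_smul_mem.1 (hmem b h1))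
    (Set.mem_smul_set_iff_inv_smul_mem.1 (hmem c h2)) (fun e => hbc (MulAction.injective g⁻¹ e))
    (fun e => hbd (MulAction.injective g⁻¹ e)) (fun e => hcd (MulAction.injective g⁻¹ e))
    (hfix b h1) (hfix c h2) (hfix d h3)
  exact hne (by calc x = g * (g⁻¹ * x * g) * g⁻¹ := by group
    _ = 1 := by rw [h4]; group)

omit hL in
/-- The product of two involutions with different centres has odd order greater than one. -/
theorem odd_mul {u w : G} (hu2 : u * u = 1) (hu1 : u ≠ 1) (hw2 : w * w = 1) (hw1 : w ≠ 1)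
    {c : Ω} (hc : u • c = c) (hne : w • c ≠ c) : Odd (orderOf (u * w)) := by
  obtain ⟨g, hg⟩ := exists_smul hC.setup c a
  have h := (S1121.result hC.setup).1 (g * u * g⁻¹) (g * w * g⁻¹)
    (show (g * u * g⁻¹) • a = a by rw [mul_smul, mul_smul, ← hg, inv_smul_smul, hc])
    (by rwa [ne_eq, conj_eq_one_iff])
    (by rw [show g * u * g⁻¹ * (g * u * g⁻¹) = g * (u * u) * g⁻¹ by group, hu2]; group)
    (fun h => hne (by
      have h' : (g * w * g⁻¹) • a = a := h
      rw [mul_smul, mul_smul, ← hg, inv_smul_smul] at h'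
      exact MulAction.injective g h'))
    (by rwa [ne_eq, conj_eq_one_iff])
    (by rw [show g * w * g⁻¹ * (g * w * g⁻¹) = g * (w * w) * g⁻¹ by group, hw2]; group)
  rwa [show g * u * g⁻¹ * (g * w * g⁻¹) = MulAut.conj g (u * w) by simp [mul_assoc], MulEquiv.orderOf_eq] at h

omit hL in
/-- Fixed-point-free elements have odd order. -/
theorem Fpf.odd {x : G} (hx : Fpf Ω x) : Odd (orderOf x) := by
  rw [← Nat.not_even_iff_odd, even_iff_two_dvd]
  intro h2
  obtain ⟨i, hi⟩ : ∃ i, i = x ^ (orderOf x / 2) := ⟨_, rfl⟩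
  have hio : orderOf i = 2 := hi ▸ orderOf_pow_orderOf_div (orderOf_pos x).ne' h2
  have hi2 : i * i = 1 := by have := pow_orderOf_eq_one i; rwa [hio, pow_two] at this
  have hi1 : i ≠ 1 := fun e => by rw [e, orderOf_one] at hio; omega
  obtain ⟨b, hb⟩ := exists_fixed_point hC.setup hi2
  exact hx b (commute_fixed_point hC.setup hi2 hi1 hb (hi ▸ Commute.pow_self x _))

omit hL in
theorem Fpf.sq {x : G} (hx : Fpf Ω x) : Fpf Ω (x * x) := fun p hp => by
  obtain ⟨k, hk⟩ := Fpf.odd hC hx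
  refine hx p ?_
  have h : (x * (x * x) ^ k) • p = p := by
    rw [← pow_two, ← pow_mul, ← pow_succ', ← hk, pow_orderOf_eq_one, one_smul]
  have h2 : ∀ j : ℕ, (x * x) ^ j • p = p := fun j => by
    induction j with
    | zero => rw [pow_zero, one_smul]
    | succ j ih => rw [pow_succ, mul_smul, hp, ih]
  rwa [mul_smul, h2] at h

end

end Cfsg.Agent.RankOneClass.UniBound
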