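import Cfsg.Agent.RankOneClass.UniBound.Torus
import Cfsg.Agent.RankOne.Central
import Cfsg.Agent.Coprime.Basic

/-!
Stage D: a fixed-point-free element lies in the line groups of one or three lines.
-/

set_option autoImplicit false
set_option linter.unusedSectionVars false

open Subgroup MulAction
open scoped Pointwise

namespace Cfsg.Agent.RankOneClass.UniBound

open Cfsg.Agent.RankOne

universe u v

variable {G : Type u} {Ω : Type v} [Group G] [Finite G] [MulAction G Ω] {a : Ω} {t : G}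
  {Q : Subgroup G} (hC : Ctx G Ω a t Q) (hL : Lines G a t Q)

/-- The lines in whose groups `x` lies. -/
def linesThrough (a : Ω) (t : G) (x : G) : Set (Set Ω) := {M | IsLine a t M ∧ x ∈ lineGrp G M}

theorem line0_isLine (a : Ω) (t : G) : IsLine a t (line0 G a t) := ⟨1, one_smul _ _⟩

theorem IsLine.smul {M : Set Ω} (h : IsLine a t M) (g : G) : IsLine a t (g • M) := by
  obtain ⟨g', rfl⟩ := h
  exact ⟨g * g', mul_smul g g' _⟩

theorem linesThrough_conj (g x : G) :
    linesThrough a t (g * x * g⁻¹) = (fun M => g • M) '' linesThrough a t x := by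
  ext M
  constructor
  · rintro ⟨hM, hx⟩
    refine ⟨g⁻¹ • M, ⟨hM.smul _, ?_⟩, smul_inv_smul g M⟩
    rw [lineGrp_smul, inv_inv]
    exact hx
  · rintro ⟨M', ⟨hM, hx⟩, rfl⟩
    exact ⟨hM.smul g, conj_mem_lineGrp g hx⟩

include hC

theorem mul_inverter {x n : G} (hf : Fpf Ω x) (hn2 : n * n = 1) (hn : n * x * n = x⁻¹) :
    n ≠ 1 ∧ (n * x) * (n * x) = 1 ∧ n * x ≠ 1 ∧ ∀ c : Ω, n • c = c → (n * x) • c ≠ c := by
  obtain ⟨c0, hc0⟩ := exists_fixed_point hC.setup hn2
  have hsq := Fpf.sq hC hf c0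
  refine ⟨fun e => ?_, ?_, fun e => ?_, fun c hc h => ?_⟩
  · rw [e, one_mul, mul_one] at hn
    exact hsq (by rw [show x * x = 1 by nth_rw 1 [hn]; exact inv_mul_cancel x, one_smul])
  · rw [← mul_assoc, hn, inv_mul_cancel]
  · have hx : x = n := by rw [← one_mul x, ← hn2, mul_assoc, e, mul_one]
    exact hf c0 (hx ▸ hc0)
  · refine hf c ?_
    have : (n * (n * x)) • c = c := by rw [mul_smul, h, hc]
    rwa [← mul_assoc, hn2, one_mul] at this

theorem odd_cent {x n : G} (hf : Fpf Ω x) (hn2 : n * n = 1) (hn : n * x * n = x⁻¹) :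
    Odd (Nat.card (centralizer ({x} : Set G))) := by
  obtain ⟨hn1, hv2, hv1, hcen⟩ := mul_inverter hC hf hn2 hn
  have h := RankOne.odd_centralizer hC.setup hC.two hn2 hn1 hv2 hv1 (fun h => by
    obtain ⟨c, hc⟩ := exists_fixed_point hC.setup hn2
    exact hcen c hc (commute_fixed_point hC.setup hn2 hn1 hc h))
  rwa [← mul_assoc, hn2, one_mul] at h

include hL

/-- An element of `Σ` moving `a` is inverted by an involution of `Σ`. -/
theorem exists_inv {s r g : G} (h : IsLink G a t Q s r) (hg : g ∈ sigGrp G a t) (hga : g • a ≠ a) :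
    ∃ u ∈ sigGrp G a t, u * u = 1 ∧ u * g * u = g⁻¹ := by
  have hS := hC.setup
  have hr := hL.link_mem s r h
  have ht : t ∈ sigGrp G a t := mem_sup_right (subset_closure rfl)
  obtain ⟨z, hz, hzd⟩ := (Ctx.mem_line0.1 (smul_mem_line0 hC hL hg (Ctx.a_mem_line0 a t))).resolve_left hga
  have hzS : z ∈ sigGrp G a t := mem_sup_left hz
  have hzz := hC.zGrp_sq hz
  have hza : z • a = a := smul_a_of_mem_Q hS (hC.zGrp_le hz)
  have h0 : (z * t * z * g) • a = a := by
    rw [mul_smul, ← hzd, mul_smul, mul_smul, smul_smul z z, hzz, one_smul, t_smul_smul hS, hza]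
  obtain ⟨z1, hz1, k1, hk1, e1⟩ := hC.sig_stabilizer h hr (mul_mem (mul_mem (mul_mem hzS ht) hzS) hg) h0
  have hk := inv_mem hk1
  have htk : t * k1⁻¹ * t = k1 := by simpa using hC.t_conj_kGrp hk
  have hkS : k1⁻¹ ∈ sigGrp G a t := by
    rw [← SetLike.mem_coe, hC.coe_sigGrp h hr]
    exact ⟨1, one_mem _, _, hk, Or.inl (one_mul _).symm⟩
  obtain ⟨u, hu⟩ : ∃ u, u = z * k1⁻¹ * t * z := ⟨_, rfl⟩
  refine ⟨u, hu ▸ mul_mem (mul_mem (mul_mem hzS hkS) ht) hzS, ?_, eq_inv_of_mul_eq_one_left ?_⟩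
  · calc u * u = z * k1⁻¹ * (t * (z * z) * k1⁻¹ * t) * z := by rw [hu]; group
      _ = 1 := by rw [hzz, mul_one, htk, inv_mul_cancel_right, hzz]
  · have e : u * g = z * (k1⁻¹ * (z * z1) * k1⁻¹⁻¹) := by
      calc u * g = z * k1⁻¹ * (z * z) * t * z * g := by rw [hzz, hu]; group
        _ = z * k1⁻¹ * z * (z * t * z * g) := by group
        _ = _ := by rw [e1]; group
    have hmem : u * g ∈ zGrp G a := by
      rw [e]; exact mul_mem hz (hC.conj_mem_zGrp (twoPt_le (Ctx.kGrp_le G a t hk)) (mul_mem hz hz1))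
    calc u * g * u * g = (u * g) * (u * g) := by group
      _ = 1 := hC.zGrp_sq hmem

/-- An element inverted by an involution with another centre is not trivial on a line. -/
theorem inverted_ne {n c : G} (hn2 : n * n = 1) (hnc : n * c * n = c⁻¹) (hodd : Odd (orderOf c))
    (hc1 : c ≠ 1) : ∃ M, IsLine a t M ∧ c ∈ lineGrp G M := by
  obtain ⟨p, hp⟩ := exists_fixed_point hC.setup hn2
  have hw2 : (n * c) * (n * c) = 1 := by rw [← mul_assoc, hnc, inv_mul_cancel]
  have hne : ∀ {w : G}, w * w = 1 → w ≠ 1 → orderOf w = 2 := fun h1 h2 =>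
    orderOf_eq_prime (by rw [pow_two, h1]) h2
  have hn1 : n ≠ 1 := fun e => by
    rw [e, one_mul, mul_one] at hnc
    have h2 : orderOf c ∣ 2 := orderOf_dvd_of_pow_eq_one (by
      rw [pow_two]; nth_rw 1 [hnc]; exact inv_mul_cancel c)
    rcases (Nat.dvd_prime Nat.prime_two).1 h2 with e | e
    · exact hc1 (orderOf_eq_one_iff.1 e)
    · rw [e] at hodd; exact absurd hodd (by decide)
  have hw1 : n * c ≠ 1 := fun e => by
    rw [show c = n by rw [← one_mul c, ← hn2, mul_assoc, e, mul_one], hne hn2 hn1] at hodd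
    exact absurd hodd (by decide)
  obtain ⟨p', hp'⟩ := exists_fixed_point hC.setup hw2
  have hpp : p ≠ p' := fun e => by
    subst e
    obtain ⟨g, hg⟩ := exists_smul hC.setup p a
    have hz1 : g * n * g⁻¹ ∈ zGrp G a := subset_closure (conj_mem_I hC.setup hn2 hn1 hg hp)
    have hz2 : g * (n * c) * g⁻¹ ∈ zGrp G a := subset_closure (conj_mem_I hC.setup hw2 hw1 hg hp')
    have h3 : g * c * g⁻¹ ∈ zGrp G a := by
      rw [show g * c * g⁻¹ = (g * n * g⁻¹) * (g * (n * c) * g⁻¹) by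
        rw [show (g * n * g⁻¹) * (g * (n * c) * g⁻¹) = g * ((n * n) * c) * g⁻¹ by group, hn2, one_mul]]
      exact mul_mem hz1 hz2
    have h4 := hne (hC.zGrp_sq h3) (by rwa [ne_eq, conj_eq_one_iff])
    rw [show g * c * g⁻¹ = MulAut.conj g c from rfl, MulEquiv.orderOf_eq] at h4
    rw [h4] at hodd
    exact absurd hodd (by decide)
  obtain ⟨M, hM, h1, h2⟩ := exists_line hC hL p p' hpp
  refine ⟨M, hM, ?_⟩
  have := mul_mem (invol_mem_lineGrp hn2 hn1 h1 hp) (invol_mem_lineGrp hw2 hw1 h2 hp')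
  rwa [← mul_assoc, hn2, one_mul] at this

/-- An element of a line group commuting with a fixed-point-free element is fixed-point-free. -/
theorem fpf_of_commute {x c : G} (hf : Fpf Ω x) (hc : ∃ M, IsLine a t M ∧ c ∈ lineGrp G M)
    (hcx : c * x = x * c) : c ≠ 1 → Fpf Ω c := by
  intro hc1 p hp
  obtain ⟨M, hM, hcM⟩ := hc
  have hfix : ∀ q : Ω, c • q = q → c • x • q = x • q := fun q hq => by
    rw [← mul_smul, hcx, mul_smul, hq]
  exact hc1 (lineGrp_three hC hL hM hcM (hf p).symm (fun e => Fpf.sq hC hf p (by rw [mul_smul]; exact e.symm))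
    (fun e => hf p (MulAction.injective x e.symm)) hp (hfix p hp) (hfix _ (hfix p hp)))

theorem line_of_inverter {x n : G} (hf : Fpf Ω x) (hn2 : n * n = 1) (hn : n * x * n = x⁻¹) :
    ∃ M ∈ linesThrough a t x, n ∈ lineGrp G M := by
  obtain ⟨hn1, hv2, hv1, hcen⟩ := mul_inverter hC hf hn2 hn
  obtain ⟨c, hc⟩ := exists_fixed_point hC.setup hn2
  obtain ⟨c', hc'⟩ := exists_fixed_point hC.setup hv2
  obtain ⟨M, hM, hcM, hc'M⟩ := exists_line hC hL c c' (fun e => hcen c hc (e ▸ hc'))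
  have h1 := invol_mem_lineGrp hn2 hn1 hcM hc
  refine ⟨M, ⟨hM, ?_⟩, h1⟩
  have := mul_mem h1 (invol_mem_lineGrp hv2 hv1 hc'M hc')
  rwa [← mul_assoc, hn2, one_mul] at this

theorem exists_line_inverter {x : G} (hf : Fpf Ω x) {M : Set Ω} (hM : M ∈ linesThrough a t x) :
    ∃ n ∈ lineGrp G M, n * n = 1 ∧ n * x * n = x⁻¹ := by
  obtain ⟨⟨g, rfl⟩, hx⟩ := hM
  rw [lineGrp_line hC hL] at hx
  obtain ⟨s, r, h⟩ := hC.exists_link
  have hga : (g⁻¹ * x * g) • a ≠ a := fun e => hf (g • a) (by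
    rwa [mul_smul, mul_smul, inv_smul_eq_iff] at e)
  -- an involution of the circle's group moving `a` as this element does
  obtain ⟨u, hu, hu2, hug⟩ := exists_inv hC hL h hx hga
  refine ⟨g * u * g⁻¹, (lineGrp_line hC hL).2 (by rwa [show g⁻¹ * (g * u * g⁻¹) * g = u by group]), ?_, ?_⟩
  · rw [show g * u * g⁻¹ * (g * u * g⁻¹) = g * (u * u) * g⁻¹ by group, hu2]; group
  · calc g * u * g⁻¹ * x * (g * u * g⁻¹) = g * (u * (g⁻¹ * x * g) * u) * g⁻¹ := by group
      _ = x⁻¹ := by rw [hug]; group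

theorem inverter_line_unique {x n : G} (hf : Fpf Ω x) (hn2 : n * n = 1) (hn : n * x * n = x⁻¹)
    {M M' : Set Ω} (hM : M ∈ linesThrough a t x) (hM' : M' ∈ linesThrough a t x)
    (h : n ∈ lineGrp G M) (h' : n ∈ lineGrp G M') : M = M' := by
  obtain ⟨hn1, hv2, hv1, hcen⟩ := mul_inverter hC hf hn2 hn
  obtain ⟨c, hcM, hc⟩ := lineGrp_centre hC hL hM.1 h hn2
  obtain ⟨c', hc'M, hc'⟩ := lineGrp_centre hC hL hM'.1 h' hn2
  obtain ⟨d, hdM, hd⟩ := lineGrp_centre hC hL hM.1 (mul_mem h hM.2) hv2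
  obtain ⟨d', hd'M, hd'⟩ := lineGrp_centre hC hL hM'.1 (mul_mem h' hM'.2) hv2
  have e1 := fixed_point_unique hC.setup hn2 hn1 hc hc'
  have e2 := fixed_point_unique hC.setup hv2 hv1 hd hd'
  exact line_unique hC hL (b := c) (c := d) (fun e => hcen c hc (by rw [e]; exact hd)) hM.1 hM'.1 hcM hdM (e1 ▸ hc'M) (e2 ▸ hd'M)

/-- The centraliser is transitive on the lines. -/
theorem exists_cent_smul {x : G} (hf : Fpf Ω x) {M M' : Set Ω} (hM : M ∈ linesThrough a t x)
    (hM' : M' ∈ linesThrough a t x) : ∃ d ∈ centralizer ({x} : Set G), d • M = M' := by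
  obtain ⟨n, hnM, hn2, hn⟩ := exists_line_inverter hC hL hf hM
  obtain ⟨n', hn'M, hn'2, hn'⟩ := exists_line_inverter hC hL hf hM'
  obtain ⟨c, hc⟩ : ∃ c, c = n' * n := ⟨_, rfl⟩
  have hni := inv_eq_of_mul_eq_one_right hn2
  have hni' := inv_eq_of_mul_eq_one_right hn'2
  have hcx : c * x * c⁻¹ = x := by
    rw [hc, mul_inv_rev, hni, hni']
    calc n' * n * x * (n * n') = n' * (n * x * n) * n' := by group
      _ = (n' * x * n')⁻¹ := by rw [hn, mul_inv_rev, mul_inv_rev, hni', ← mul_assoc]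
      _ = x := by rw [hn', inv_inv]
  have hcC : c ∈ centralizer ({x} : Set G) := mem_centralizer_singleton_iff.2 (mul_inv_eq_iff_eq_mul.1 hcx)
  have hodd : Odd (orderOf c) := (odd_cent hC hf hn2 hn).of_dvd_nat
    ((centralizer ({x} : Set G)).orderOf_dvd_natCard hcC)
  have hdC : oddRoot c ∈ centralizer ({x} : Set G) := oddRoot_mem hcC
  obtain ⟨d, hd⟩ : ∃ d, d = oddRoot c := ⟨_, rfl⟩
  have hnc : n * c * n = c⁻¹ := by
    rw [hc, mul_inv_rev, hni, hni', mul_assoc, mul_assoc, hn2, mul_one]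
  have hnd : n * d * n = d⁻¹ := by
    have h := map_pow (MulAut.conj n) c ((orderOf c + 1) / 2)
    rw [MulAut.conj_apply, MulAut.conj_apply, hni, hnc, inv_pow] at h
    rw [hd]; exact h
  have hdd : d * d = c := hd ▸ oddRoot_mul_self hodd
  have hdn : d * n * d⁻¹ = n' := by
    calc d * n * d⁻¹ = d * (n * (n * d * n)) := by rw [hnd, ← mul_assoc]
      _ = d * d * n := by rw [← mul_assoc n, ← mul_assoc n, hn2, one_mul, ← mul_assoc]
      _ = n' := by rw [hdd, hc, mul_assoc, hn2, mul_one]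
  rw [← hd] at hdC
  refine ⟨d, hdC, inverter_line_unique hC hL hf hn'2 hn' ⟨hM.1.smul d, ?_⟩ hM' ?_ hn'M⟩
  · have := conj_mem_lineGrp d hM.2
    rwa [show d * x * d⁻¹ = x by rw [mem_centralizer_singleton_iff.1 hdC, mul_inv_cancel_right]] at this
  · exact hdn ▸ conj_mem_lineGrp d hnM

/-- The stabiliser of the circle. -/
theorem relIndex_stab : (sigGrp G a t).relIndex (MulAction.stabilizer G (line0 G a t)) = Nat.card (vGrp G a t) := by
  have hle : sigGrp G a t ≤ MulAction.stabilizer G (line0 G a t) := fun g hg => hL.sig_line g hg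
  obtain ⟨s, r, h⟩ := hC.exists_link
  have hr := hL.link_mem s r h
  have hKS : ∀ k ∈ kGrp G a t, k ∈ sigGrp G a t := fun k hk => by
    rw [← SetLike.mem_coe, hC.coe_sigGrp h hr]
    exact ⟨1, one_mem _, k, hk, Or.inl (one_mul k).symm⟩
  have hVS : ∀ v ∈ vGrp G a t, v ∈ MulAction.stabilizer G (line0 G a t) := fun v hv =>
    twoPt_line0 hC hL (Ctx.vGrp_le G a t hv)
  let φ : vGrp G a t → MulAction.stabilizer G (line0 G a t) ⧸ (sigGrp G a t).subgroupOf _ :=
    fun v => QuotientGroup.mk ⟨v, hVS v v.2⟩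
  rw [relIndex, index_eq_card]
  refine (Nat.card_eq_of_bijective φ ⟨fun v v' e => ?_, fun q => ?_⟩).symm
  · rw [QuotientGroup.eq, mem_subgroupOf] at e
    have hm : (v : G)⁻¹ * v' ∈ vGrp G a t := mul_mem (inv_mem v.2) v'.2
    exact Subtype.ext (inv_mul_eq_one.1 (hC.kv_disjoint
      (hC.sig_twoPt h hr e (Ctx.vGrp_le G a t hm)) hm))
  · obtain ⟨⟨g, hg⟩, rfl⟩ := QuotientGroup.mk_surjective q
    obtain ⟨σ, hσ, hd⟩ := exists_sig_twoPt hC hL (show g⁻¹ • line0 G a t = line0 G a t from inv_mem hg)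
    obtain ⟨k, hk, w, hw, e⟩ := hC.exists_kv hd
    refine ⟨⟨w⁻¹, inv_mem hw⟩, QuotientGroup.eq.2 (mem_subgroupOf.2 ?_)⟩
    show (w⁻¹)⁻¹ * g ∈ sigGrp G a t
    have hwn := conj_mem_lineGrp w⁻¹⁻¹ (M := line0 G a t) ((lineGrp_line0 hC hL).symm ▸ hσ)
    rw [show (w⁻¹)⁻¹ * g = k⁻¹ * σ by
      calc (w⁻¹)⁻¹ * g = k⁻¹ * (k * w) * g := by group
        _ = k⁻¹ * σ := by rw [← e]; group]
    exact mul_mem (inv_mem (hKS k hk)) hσ

theorem card_stab_norm_dvd {x : G} (hx : x ∈ sigGrp G a t) (hf : Fpf Ω x) :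
    (qq G a + 1) * Nat.card (vGrp G a t) ∣
      Nat.card ↥(MulAction.stabilizer G (line0 G a t) ⊓ normalizer (zpowers x : Set G)) := by
  obtain ⟨T, hT, hcyc, hcard⟩ := exists_torus hC hL
  obtain ⟨σ, hσ, h⟩ := exists_torus_mem hC hL hT hcyc hcard hx hf
  set St := MulAction.stabilizer G (line0 G a t)
  have hle : sigGrp G a t ≤ St := fun g hg => hL.sig_line g hg
  let A := T.map (MulAut.conj σ⁻¹).toMonoidHom
  have hA : A ≤ sigGrp G a t ⊓ normalizer (zpowers x : Set G) := by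
    rintro _ ⟨τ, hτ, rfl⟩
    refine mem_inf.2 ⟨?_, ?_⟩
    · show σ⁻¹ * τ * σ⁻¹⁻¹ ∈ _
      exact mul_mem (mul_mem (inv_mem hσ) (hT hτ)) (inv_mem (inv_mem hσ))
    · refine centralizer_le_normalizer _ (mem_centralizer_iff.2 fun w hw => ?_)
      obtain ⟨k, rfl⟩ := mem_zpowers_iff.1 hw
      letI := hcyc.commGroup
      have hc : Commute τ (σ * x * σ⁻¹) := congrArg Subtype.val (mul_comm (⟨τ, hτ⟩ : T) ⟨_, h⟩)
      have hc' : Commute (σ⁻¹ * τ * σ⁻¹⁻¹) x := by
        show σ⁻¹ * τ * σ⁻¹⁻¹ * x = x * (σ⁻¹ * τ * σ⁻¹⁻¹)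
        calc σ⁻¹ * τ * σ⁻¹⁻¹ * x = σ⁻¹ * (τ * (σ * x * σ⁻¹)) * σ := by group
          _ = σ⁻¹ * ((σ * x * σ⁻¹) * τ) * σ := by rw [hc.eq]
          _ = _ := by group
      exact (hc'.zpow_right k).eq.symm
  have h1 : qq G a + 1 ∣ Nat.card ↥(sigGrp G a t ⊓ normalizer (zpowers x : Set G)) := by
    rw [← hcard, ← card_map_of_injective (f := (MulAut.conj σ⁻¹).toMonoidHom) (MulEquiv.injective _) ]
    exact card_dvd_of_le hA
  let N := St ⊓ normalizer (zpowers x : Set G)
  have hidx : ((sigGrp G a t).subgroupOf N).index = Nat.card (vGrp G a t) := by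
    rw [← relIndex_stab hC hL, relIndex, index_eq_card, index_eq_card]
    refine Nat.card_eq_of_bijective
      (Quotient.map' (fun g : N => (⟨g, g.2.1⟩ : St)) fun g g' e => by
        rw [QuotientGroup.leftRel_apply, mem_subgroupOf] at e ⊢
        exact e) ⟨?_, ?_⟩
    · intro q q' e
      obtain ⟨g, rfl⟩ := QuotientGroup.mk_surjective q
      obtain ⟨g', rfl⟩ := QuotientGroup.mk_surjective q'
      have e' : (QuotientGroup.mk (⟨(g : G), g.2.1⟩ : St) : St ⧸ (sigGrp G a t).subgroupOf St) =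
          QuotientGroup.mk ⟨(g' : G), g'.2.1⟩ := e
      have := QuotientGroup.eq.1 e'
      rw [mem_subgroupOf] at this
      exact QuotientGroup.eq.2 (mem_subgroupOf.2 this)
    · intro q
      obtain ⟨⟨v, hv⟩, rfl⟩ := QuotientGroup.mk_surjective q
      obtain ⟨τ, hτ, hn⟩ := exists_sig_norm hC hL hx hf (show v • line0 G a t = line0 G a t from hv)
      refine ⟨QuotientGroup.mk ⟨τ * v, mul_mem (hle hτ) hv, hn⟩, QuotientGroup.eq.2 (mem_subgroupOf.2 ?_)⟩
      show (τ * v)⁻¹ * v ∈ sigGrp G a t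
      have := conj_mem_lineGrp v⁻¹ (M := line0 G a t) (inv_mem ((lineGrp_line0 hC hL).symm ▸ hτ))
      rw [show v⁻¹ • line0 G a t = line0 G a t from inv_mem hv, lineGrp_line0 hC hL] at this
      rwa [inv_inv, ← mul_inv_rev] at this
  have h2 := ((sigGrp G a t).subgroupOf N).card_mul_index
  rw [hidx] at h2
  rw [← h2]
  refine mul_dvd_mul_right (h1.trans ?_) _
  have e : sigGrp G a t ⊓ normalizer (zpowers x : Set G) = sigGrp G a t ⊓ N := by
    rw [← inf_assoc, inf_eq_left.2 hle]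
  rw [e]
  rw [← subgroupOf_map_subtype (sigGrp G a t) N, card_map_of_injective N.subtype_injective]

/-- A fixed-point-free element of `Σ` lies in at most three line groups. -/
theorem ncard_lines_aux (hU : IsUni G a Q) {x : G} (hx : x ∈ sigGrp G a t) (hf : Fpf Ω x) :
    (linesThrough a t x).ncard ∣ 3 := by
  haveI := finite_points hC.setup
  obtain ⟨M0, hM0⟩ : ∃ M0, M0 = line0 G a t := ⟨_, rfl⟩
  have hM0x : M0 ∈ linesThrough a t x := hM0 ▸ ⟨line0_isLine a t, (lineGrp_line0 hC hL).symm ▸ hx⟩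
  set N := normalizer (zpowers x : Set G)
  set l := (linesThrough a t x).ncard
  -- orbit of the normaliser
  have horb : MulAction.orbit N M0 = linesThrough a t x := by
    ext M
    constructor
    · rintro ⟨⟨g, hg⟩, rfl⟩
      refine ⟨hM0x.1.smul g, ?_⟩
      show x ∈ lineGrp G (g • M0)
      have hgx : g⁻¹ * x * g ∈ zpowers x := by
        simpa using (mem_normalizer_iff.1 (inv_mem hg) x).1 (mem_zpowers x)
      rw [lineGrp_smul]
      exact zpowers_le.2 hM0x.2 hgx
    · intro hM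
      obtain ⟨d, hd, e⟩ := exists_cent_smul hC hL hf hM0x hM
      refine ⟨⟨d, centralizer_le_normalizer _ (mem_centralizer_iff.2 fun w hw => ?_)⟩, e⟩
      obtain ⟨k, rfl⟩ := mem_zpowers_iff.1 hw
      exact ((show Commute d x from mem_centralizer_singleton_iff.1 hd).zpow_right k).eq.symm
  have h1 := (MulAction.stabilizer N M0).card_mul_index
  rw [MulAction.index_stabilizer, horb] at h1
  have hst : Nat.card (MulAction.stabilizer N M0) =
      Nat.card ↥(MulAction.stabilizer G (line0 G a t) ⊓ N) := by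
    rw [← hM0]
    refine Nat.card_congr
      { toFun := fun g => ⟨((g : N) : G), g.2, (g : N).2⟩
        invFun := fun g => ⟨⟨g, g.2.2⟩, g.2.1⟩
        left_inv := fun _ => rfl
        right_inv := fun _ => rfl }
  obtain ⟨f, hf2, hqf⟩ := hC.exists_qq_pow
  have h4 := hC.four_le_qq
  have hK := hC.card_kGrp
  set m := Nat.card (vGrp G a t)
  have hdvd : l * ((qq G a + 1) * m) ∣ Nat.card G := by
    refine Nat.dvd_trans ?_ N.card_subgroup_dvd_card
    rw [← h1, mul_comm l]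
    exact mul_dvd_mul_right (hst ▸ card_stab_norm_dvd hC hL hx hf) _
  rw [card_group hC.setup, hC.card_twoPt, hU.card] at hdvd
  have hdvd' : l ∣ qq G a ^ 3 * (qq G a - 1) * (qq G a * (qq G a - 1) + 1) := by
    refine (Nat.mul_dvd_mul_iff_right (show 0 < (qq G a + 1) * m from
      Nat.mul_pos (Nat.succ_pos _) Nat.card_pos)).1 (hdvd.trans (dvd_of_eq ?_))
    obtain ⟨q, hq⟩ : ∃ q, qq G a = q + 1 := ⟨qq G a - 1, by omega⟩
    rw [show Nat.card (kGrp G a t) = qq G a - 1 by omega, hq, Nat.add_sub_cancel]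
    ring
  -- primes of `l` divide `q + 1`
  obtain ⟨n, hnM, hn2, hn⟩ := exists_line_inverter hC hL hf hM0x
  obtain ⟨hn1, hv2, hv1, hcen⟩ := mul_inverter hC hf hn2 hn
  set C := centralizer ({x} : Set G)
  have hodd : Odd (Nat.card C) := odd_cent hC hf hn2 hn
  have horbC : MulAction.orbit C M0 = linesThrough a t x := by
    ext M
    constructor
    · rintro ⟨⟨g, hg⟩, rfl⟩
      refine ⟨hM0x.1.smul g, ?_⟩
      show x ∈ lineGrp G (g • M0)
      have := conj_mem_lineGrp g hM0x.2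
      rwa [mem_centralizer_singleton_iff.1 hg, mul_inv_cancel_right] at this
    · intro hM
      obtain ⟨d, hd, e⟩ := exists_cent_smul hC hL hf hM0x hM
      exact ⟨⟨d, hd⟩, e⟩
  have hlC : (MulAction.stabilizer C M0).index = l := by rw [MulAction.index_stabilizer, horbC]
  have hprimes : ∀ p : ℕ, p.Prime → p ∣ l → p ∣ qq G a + 1 := by
    intro p hp hpl
    by_contra hpq
    haveI := Fact.mk hp
    have hnorm : zpowers n ≤ normalizer (C : Set G) := zpowers_le.2 (mem_normalizer_iff.2 fun w => by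
      have key : ∀ w, w ∈ C → n * w * n⁻¹ ∈ C := fun w hw => by
        rw [mem_centralizer_singleton_iff] at hw ⊢
        rw [inv_eq_of_mul_eq_one_right hn2]
        have hxw : Commute w x⁻¹ := (show Commute w x from hw).inv_right
        have e : x * n = n * x⁻¹ := by rw [← hn, ← mul_assoc, ← mul_assoc, hn2, one_mul]
        have e' : n * x = x⁻¹ * n := by rw [← hn, mul_assoc _ n n, hn2, mul_one]
        calc n * w * n * x = n * (w * x⁻¹) * n := by rw [mul_assoc (n * w), e']; group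
          _ = n * x⁻¹ * w * n := by rw [hxw.eq]; simp only [mul_assoc]
          _ = x * (n * w * n) := by rw [← e]; group
      refine ⟨key w, fun hw => ?_⟩
      have := key _ hw
      rwa [inv_eq_of_mul_eq_one_right hn2, show n * (n * w * n) * n = (n * n) * w * (n * n) by group,
        hn2, one_mul, mul_one] at this)
    have hcop : (Nat.card (zpowers n)).Coprime (Nat.card C) := by
      rw [Nat.card_zpowers, orderOf_eq_prime (by rw [pow_two, hn2]) hn1]
      exact Nat.coprime_two_left.2 hodd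
    obtain ⟨P, hP⟩ := Coprime.exists_invariant_sylow hnorm hcop
      (Or.inl (Group.isSolvable_of_comm fun g g' => by
        obtain ⟨_, i, rfl⟩ := g
        obtain ⟨_, j, rfl⟩ := g'
        exact Subtype.ext ((Commute.refl n).zpow_zpow i j).eq)) p
    have hPst : (P : Subgroup C) ≤ MulAction.stabilizer C M0 := by
      intro y hy
      have hyn : n * (y : G) * n⁻¹ ∈ (P : Subgroup C).map C.subtype :=
        (mem_normalizer_iff.1 (hP (mem_zpowers n)) _).1 ⟨y, hy, rfl⟩
      rw [inv_eq_of_mul_eq_one_right hn2] at hyn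
      obtain ⟨c, hc⟩ : ∃ c, c = (y : G)⁻¹ * (n * y * n) := ⟨_, rfl⟩
      have hcP : c ∈ (P : Subgroup C).map C.subtype := hc ▸ mul_mem (inv_mem ⟨y, hy, rfl⟩) hyn
      have hcC : c ∈ C := map_subtype_le _ hcP
      have hnc : n * c * n = c⁻¹ := by
        rw [hc, mul_inv_rev, inv_inv, mul_inv_rev, mul_inv_rev, inv_eq_of_mul_eq_one_right hn2]
        rw [show n * ((y : G)⁻¹ * (n * y * n)) * n = n * (y : G)⁻¹ * n * y * (n * n) by group, hn2, mul_one]
        group
      have hc1 : c = 1 := by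
        by_contra hc1
        have hcf : Fpf Ω c := fpf_of_commute hC hL hf (inverted_ne hC hL hn2 hnc (hodd.of_dvd_nat
          (C.orderOf_dvd_natCard hcC)) hc1) (mem_centralizer_singleton_iff.1 hcC) hc1
        obtain ⟨M, hM, -⟩ := line_of_inverter hC hL hcf hn2 hnc
        obtain ⟨⟨g, rfl⟩, hcM⟩ := hM
        have hdvd1 := fpf_orderOf_dvd hC hL ((lineGrp_line hC hL).1 hcM)
          (by simpa [inv_inv] using hcf.conj g⁻¹)
        rw [show g⁻¹ * c * g = MulAut.conj g⁻¹ c by simp, MulEquiv.orderOf_eq] at hdvd1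
        obtain ⟨i, hi⟩ : ∃ i, orderOf c = p ^ i := by
          obtain ⟨y', hy', e⟩ := hcP
          obtain ⟨i, hi⟩ := IsPGroup.iff_orderOf.1 P.2 ⟨y', hy'⟩
          exact ⟨i, by rw [← hi, ← e, Subgroup.orderOf_mk]; exact Subgroup.orderOf_coe y'⟩
        rcases Nat.eq_zero_or_pos i with rfl | hi0
        · rw [pow_zero, orderOf_eq_one_iff] at hi; exact hc1 hi
        · exact hpq ((dvd_pow_self p hi0.ne').trans (hi ▸ hdvd1))
      have hny : n * (y : G) * n = y := by
        rw [hc, inv_mul_eq_one] at hc1; exact hc1.symm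
      -- `y` fixes both centres
      have hyx : Commute (y : G) x := mem_centralizer_singleton_iff.1 y.2
      have hnyc : Commute n (y : G) := by
        show n * (y : G) = y * n
        nth_rw 2 [← hny]
        rw [mul_assoc, hn2, mul_one]
      obtain ⟨c0, hc0M, hc0⟩ := lineGrp_centre hC hL hM0x.1 hnM hn2
      obtain ⟨d0, hd0M, hd0⟩ := lineGrp_centre hC hL hM0x.1 (mul_mem hnM hM0x.2) hv2
      have e1 := commute_fixed_point hC.setup hn2 hn1 hc0 hnyc
      have e2 := commute_fixed_point hC.setup hv2 hv1 hd0 (hnyc.mul_left hyx.symm)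
      show (y : G) • M0 = M0
      refine line_unique hC hL (b := c0) (c := d0) (fun e => hcen c0 hc0 (by rw [e]; exact hd0)) (hM0x.1.smul _) hM0x.1 ?_ ?_ hc0M hd0M
      · exact Set.mem_smul_set.2 ⟨c0, hc0M, e1⟩
      · exact Set.mem_smul_set.2 ⟨d0, hd0M, e2⟩
    refine P.not_dvd_index ?_
    exact hpl.trans (hlC ▸ index_dvd_of_le hPst)
  -- conclusion
  have hl0 : l ≠ 0 := by rw [← hlC]; exact index_ne_zero_of_finite
  have hcop : l.Coprime (qq G a ^ 3 * (qq G a - 1)) := by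
    refine Nat.coprime_of_dvd fun p hp h1 h2 => ?_
    have hq := hprimes p hp h1
    rcases (Nat.Prime.dvd_mul hp).1 h2 with h | h
    · exact hp.ne_one (Nat.eq_one_of_dvd_coprimes (Nat.coprime_self_add_right.2 (Nat.coprime_one_right _))
        (hp.dvd_of_dvd_pow h) hq)
    · exact hp.ne_one (Nat.eq_one_of_dvd_coprimes (coprime_succ hC) (h.mul_left _) hq)
  have hl3 := hcop.dvd_of_dvd_mul_left hdvd'
  obtain ⟨q, hq⟩ : ∃ q, qq G a = q + 2 := ⟨qq G a - 2, by omega⟩
  rw [hq, show q + 2 - 1 = q + 1 by omega] at hl3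
  rw [hq] at hprimes
  have hp3 : ∀ p : ℕ, p.Prime → p ∣ l → p = 3 := fun p hp h => by
    have h1 := hprimes p hp h
    have h2 := h.trans hl3
    have e : (q + 2) * (q + 1) + 1 = (q + 2 + 1) * q + 3 := by ring
    rw [e] at h2
    exact (Nat.prime_dvd_prime_iff_eq hp Nat.prime_three).1 ((Nat.dvd_add_right (h1.mul_right q)).1 h2)
  by_cases hl1 : l = 1
  · rw [hl1]; exact one_dvd _
  obtain ⟨k, hk⟩ : ∃ k, l = 3 ^ k := ⟨_, Nat.eq_prime_pow_of_unique_prime_dvd hl0 fun {p} hp h => hp3 p hp h⟩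
  rcases k with _ | _ | k
  · rw [hk, pow_zero]; exact one_dvd _
  · rw [hk, zero_add, pow_one]
  · exfalso
    have h9 : 9 ∣ (q + 2) * (q + 1) + 1 := by
      refine Nat.dvd_trans ?_ hl3
      rw [hk, pow_succ, pow_succ, mul_assoc]
      exact dvd_mul_left _ _
    have h3 := hprimes 3 Nat.prime_three (by rw [hk]; exact dvd_pow_self 3 (by omega))
    obtain ⟨j, hj⟩ : ∃ j, q = 3 * j := ⟨q / 3, by omega⟩
    rw [hj, show (3 * j + 2) * (3 * j + 1) + 1 = 9 * (j * j + j) + 3 by ring] at h9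
    have := (Nat.dvd_add_right (dvd_mul_right 9 _)).1 h9
    norm_num at this

theorem ncard_lines (hU : IsUni G a Q) {x : G} (hf : Fpf Ω x) {M : Set Ω}
    (hM : M ∈ linesThrough a t x) : (linesThrough a t x).ncard ∣ 3 := by
  obtain ⟨⟨g, rfl⟩, hx⟩ := hM
  have h := ncard_lines_aux hC hL hU ((lineGrp_line hC hL).1 hx) (by simpa [inv_inv] using hf.conj g⁻¹)
  rwa [show g⁻¹ * x * g = g⁻¹ * x * g⁻¹⁻¹ by rw [inv_inv], linesThrough_conj,
    Set.ncard_image_of_injective _ (MulAction.injective g⁻¹)] at h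

end Cfsg.Agent.RankOneClass.UniBound
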