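import Cfsg.Agent.RankOneClass.UniBound.Real

/-!
Stage D: a torus meets the group of its orbit line in at most three elements.
-/

set_option autoImplicit false
set_option linter.unusedSectionVars false

open Subgroup MulAction
open scoped Pointwise

namespace Cfsg.Agent.RankOneClass.UniBound

open Cfsg.Agent.RankOne

universe u v

variable {G : Type u} {Ω : Type v} [Group G] [Finite G] [MulAction G Ω] {a : Ω} {t : G}
  {Q : Subgroup G} (hC : Ctx G Ω a t Q) (hL : Lines G a t Q)

include hC hL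

/-- An element normalising a line, inverted by an involution of its group, lies in that group. -/
theorem mem_lineGrp_of_inverted {L : Set Ω} (hLl : IsLine a t L) {u y : G} (hu : u ∈ lineGrp G L)
    (hu2 : u * u = 1) (hy : y • L = L) (huy : u * y * u = y⁻¹) (hodd : Odd (orderOf y)) :
    y ∈ lineGrp G L := by
  have h1 : y⁻¹ * u * y ∈ lineGrp G L := by
    have := conj_mem_lineGrp y⁻¹ hu
    rwa [inv_inv, show y⁻¹ • L = L from inv_smul_eq_iff.2 hy.symm] at this
  have h2 : y * y ∈ lineGrp G L := by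
    have e : u * y⁻¹ * u = y := by
      have := congrArg (fun w => w⁻¹) huy
      simp only [mul_inv_rev, inv_inv, inv_eq_of_mul_eq_one_right hu2] at this
      rwa [mul_assoc]
    have : y * y = u * (y⁻¹ * u * y) := by
      calc y * y = (u * y⁻¹ * u) * y := by rw [e]
        _ = u * (y⁻¹ * u * y) := by group
    rw [this]; exact mul_mem hu h1
  rw [← oddRoot_sq hodd]
  exact oddRoot_mem h2

/-- The torus and the group of its orbit line have at most three elements in common. -/
theorem torus_inf_dvd (hU : IsUni G a Q) {T : Subgroup G} (hT : T ≤ sigGrp G a t) (hcyc : IsCyclic T)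
    (hcard : Nat.card T = qq G a + 1) {p : Ω} (hp : p ∉ line0 G a t) {g : G}
    (hg : g • line0 G a t = (fun c => c • p) '' (T : Set G)) :
    Nat.card ↥(T ⊓ lineGrp G (g • line0 G a t)) ∣ 3 := by
  haveI := finite_points hC.setup
  obtain ⟨L1, hL1⟩ : ∃ L1, L1 = g • line0 G a t := ⟨_, rfl⟩
  rw [← hL1] at hg ⊢
  have hL1l : IsLine a t L1 := hL1 ▸ ⟨g, rfl⟩
  have hdisj : ∀ c ∈ L1, c ∉ line0 G a t := by
    intro c hc h0
    rw [hg] at hc
    obtain ⟨τ, hτ, rfl⟩ := hc
    refine hp ?_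
    have := smul_mem_line0 hC hL (inv_mem (hT hτ)) h0
    rwa [inv_smul_smul] at this
  have hpar : ∀ {M : Set Ω}, IsLine a t M → Odd M.ncard := fun hM => by
    rw [ncard_line hC hL hM, ← hC.ncard_line0]; exact ncard_line0_odd hC
  -- a generator of the torus and an involution inverting it
  obtain ⟨τ0, hτ0⟩ := hcyc.exists_generator
  have hgen : ∀ y ∈ T, ∃ i : ℤ, (τ0 : G) ^ i = y := fun y hy => by
    obtain ⟨i, hi⟩ := mem_zpowers_iff.1 (hτ0 ⟨y, hy⟩)
    exact ⟨i, by rw [← SubgroupClass.coe_zpow, hi]⟩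
  obtain ⟨s, r, h⟩ := hC.exists_link
  have hτ1 : (τ0 : G) ≠ 1 := fun e => by
    have hq := hC.four_le_qq
    have hb : T = ⊥ := (eq_bot_iff_forall _).2 fun y hy => by
      obtain ⟨i, rfl⟩ := hgen y hy
      rw [e, one_zpow]
    rw [hb, card_bot] at hcard
    omega
  obtain ⟨u, hu, hu2, huτ⟩ := exists_inv hC hL h (hT τ0.2)
    (torus_fpf hC hL hT hcard τ0.2 hτ1 a)
  have hui := inv_eq_of_mul_eq_one_right hu2
  have hinv : ∀ y ∈ T, u * y * u = y⁻¹ := fun y hy => by
    obtain ⟨i, rfl⟩ := hgen y hy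
    have h1 := map_zpow (MulAut.conj u) (τ0 : G) i
    rw [MulAut.conj_apply, MulAut.conj_apply, hui, huτ, inv_zpow] at h1
    exact h1
  have hu1 : u ≠ 1 := fun e => by
    rw [e, one_mul, mul_one] at huτ
    exact Fpf.sq hC (torus_fpf hC hL hT hcard τ0.2 hτ1) a (by
      rw [show (τ0 : G) * τ0 = 1 by nth_rw 1 [huτ]; exact inv_mul_cancel _, one_smul])
  obtain ⟨cu, hcu, hcufix⟩ := exists_fix_in hC hu2 (hL.sig_line u hu) (ncard_line0_odd hC)
  obtain ⟨L2, hL2⟩ : ∃ L2, L2 = u • L1 := ⟨_, rfl⟩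
  have hL2l : IsLine a t L2 := hL2 ▸ hL1l.smul u
  have hdisj2 : ∀ c ∈ L2, c ∉ line0 G a t := by
    intro c hc h0
    rw [hL2] at hc
    obtain ⟨c', hc', rfl⟩ := hc
    refine hdisj c' hc' ?_
    have := smul_mem_line0 hC hL hu h0
    rwa [← mul_smul, hu2, one_smul] at this
  have h01 : line0 G a t ≠ L1 := fun e => hdisj a (e ▸ Ctx.a_mem_line0 a t) (Ctx.a_mem_line0 a t)
  have h02 : line0 G a t ≠ L2 := fun e => hdisj2 a (e ▸ Ctx.a_mem_line0 a t) (Ctx.a_mem_line0 a t)
  have h12 : L1 ≠ L2 := by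
    intro e
    obtain ⟨c, hc, hfix⟩ := exists_fix_in hC hu2 (hL2.symm.trans e.symm) (hpar hL1l)
    exact hdisj c hc ((fixed_point_unique hC.setup hu2 hu1 hcufix hfix) ▸ hcu)
  -- the lines of a common element
  have hlines : ∀ x ∈ T ⊓ lineGrp G L1, x ≠ 1 →
      linesThrough a t x = {line0 G a t, L1, L2} := by
    rintro x ⟨hxT, hx1⟩ hne
    have hsub : ({line0 G a t, L1, L2} : Set (Set Ω)) ⊆ linesThrough a t x := by
      rintro M (rfl | rfl | rfl)
      · exact ⟨line0_isLine a t, (lineGrp_line0 hC hL).symm ▸ hT hxT⟩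
      · exact ⟨hL1l, hx1⟩
      · refine ⟨hL2l, ?_⟩
        rw [hL2, lineGrp_smul, hui, hinv x hxT]
        exact inv_mem hx1
    have h3 : ({line0 G a t, L1, L2} : Set (Set Ω)).ncard = 3 :=
      Set.ncard_eq_three.2 ⟨_, _, _, h01, h02, h12, rfl⟩
    refine (Set.eq_of_subset_of_ncard_le hsub ?_).symm
    rw [h3]
    exact Nat.le_of_dvd (by norm_num)
      (ncard_lines hC hL hU (torus_fpf hC hL hT hcard hxT hne) (hsub (Set.mem_insert _ _)))
  have hexp : ∀ x ∈ T ⊓ lineGrp G L1, x ^ 3 = 1 := by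
    rintro x ⟨hxT, hx1⟩
    by_contra hx3
    have hne : x ≠ 1 := fun e => hx3 (by rw [e, one_pow])
    have hxf := torus_fpf hC hL hT hcard hxT hne
    obtain ⟨n1, hn1M, hn12, hn1x⟩ := exists_line_inverter hC hL hxf (M := L1) ⟨hL1l, hx1⟩
    obtain ⟨hn11, -⟩ := mul_inverter hC hxf hn12 hn1x
    obtain ⟨c1, hc1, hc1fix⟩ := lineGrp_centre hC hL hL1l hn1M hn12
    have hcne : cu ≠ c1 := fun e => hdisj c1 hc1 (e ▸ hcu)
    -- the product of the two involutions
    obtain ⟨y, hy⟩ : ∃ y, y = u * n1 := ⟨_, rfl⟩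
    obtain ⟨L, hLl, hLu, hLn⟩ := exists_line hC hL cu c1 hcne
    have huL := invol_mem_lineGrp hu2 hu1 hLu hcufix
    have hyL : y ∈ lineGrp G L := hy ▸ mul_mem huL (invol_mem_lineGrp hn12 hn11 hLn hc1fix)
    have hy1 : y ≠ 1 := fun e => hcne (fixed_point_unique hC.setup hu2 hu1 hcufix (by
      rw [show u = n1 by rw [← mul_one u, ← hn12, ← mul_assoc, ← hy, e, one_mul]]; exact hc1fix)).symm
    have hyx : y * x = x * y := by
      rw [hy]
      calc u * n1 * x = u * (n1 * x * n1) * n1 := by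
            simp only [mul_assoc, hn12, mul_one]
        _ = u * x⁻¹ * n1 := by rw [hn1x]
        _ = u * x⁻¹ * (u * u) * n1 := by rw [hu2, mul_one]
        _ = (u * x⁻¹ * u) * u * n1 := by group
        _ = x * (u * n1) := by rw [hinv x⁻¹ (inv_mem hxT), inv_inv, mul_assoc]
    have hyf := fpf_of_commute hC hL hxf ⟨L, hLl, hyL⟩ hyx hy1
    have hmem : L ∈ linesThrough a t y := ⟨hLl, hyL⟩
    have hl3 := Nat.le_of_dvd (by norm_num) (ncard_lines hC hL hU hyf hmem)
    -- the cube fixes the line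
    have hper : ∀ i : ℕ, (x ^ i) • L ∈ linesThrough a t y := fun i => by
      refine ⟨hLl.smul _, ?_⟩
      have := conj_mem_lineGrp (x ^ i) hyL
      rwa [((show Commute x y from hyx.symm).pow_left i).eq, mul_inv_cancel_right] at this
    have hfix : (x ^ 3) • L = L := by
      have hodd : Odd (orderOf x) := Fpf.odd hC hxf
      obtain ⟨i, hi, j, hj, hij, e⟩ : ∃ i < 4, ∃ j < 4, i ≠ j ∧ (x ^ i) • L = (x ^ j) • L := by
        by_contra hno
        push_neg at hno
        have h4 : Set.ncard ((fun i : Fin 4 => (x ^ (i : ℕ)) • L) '' Set.univ) = 4 := by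
          rw [Set.ncard_image_of_injective _ (fun i j e => by
            by_contra hij
            exact hno i i.2 j j.2 (fun h => hij (Fin.ext h)) e), Set.ncard_univ, Nat.card_fin]
        have := Set.ncard_le_ncard (s := (fun i : Fin 4 => (x ^ (i : ℕ)) • L) '' Set.univ) (t := linesThrough a t y) (by
          rintro _ ⟨i, -, rfl⟩; exact hper i) (Set.toFinite _)
        omega
      obtain ⟨k, hk, hk3, hkL⟩ : ∃ k, 1 ≤ k ∧ k ≤ 3 ∧ (x ^ k) • L = L := by
        rcases Nat.lt_or_gt_of_ne hij with h | h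
        · refine ⟨j - i, by omega, by omega, MulAction.injective (x ^ i) ?_⟩
          show x ^ i • x ^ (j - i) • L = x ^ i • L
          rw [← mul_smul, ← pow_add, Nat.add_sub_cancel' h.le, e]
        · refine ⟨i - j, by omega, by omega, MulAction.injective (x ^ j) ?_⟩
          show x ^ j • x ^ (i - j) • L = x ^ j • L
          rw [← mul_smul, ← pow_add, Nat.add_sub_cancel' h.le, ← e]
      have hall : ∀ (w : G), w ∈ MulAction.stabilizer G L → ∀ m : ℕ, (w ^ m) • L = L := fun w hw m =>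
        pow_mem hw m
      rcases (show k = 1 ∨ k = 2 ∨ k = 3 by omega) with rfl | rfl | rfl
      · rw [pow_one] at hkL
        exact hall x hkL 3
      · obtain ⟨n, hn⟩ := hodd
        have : x = (x ^ 2) ^ (n + 1) := by
          rw [← pow_mul, show 2 * (n + 1) = orderOf x + 1 by omega, pow_succ, pow_orderOf_eq_one, one_mul]
        have h5 := hall _ hkL (n + 1)
        rw [← this] at h5
        exact hall x h5 3
      · exact hkL
    have hx3T : x ^ 3 ∈ T := pow_mem hxT 3
    have hmem3 : L ∈ linesThrough a t (x ^ 3) := ⟨hLl,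
      mem_lineGrp_of_inverted hC hL hLl huL hu2 hfix (hinv _ hx3T)
        (Fpf.odd hC (torus_fpf hC hL hT hcard hx3T hx3))⟩
    rw [hlines _ ⟨hx3T, pow_mem hx1 3⟩ hx3] at hmem3
    rcases hmem3 with e | e | e
    · exact hdisj c1 hc1 (e ▸ hLn)
    · exact hdisj cu (e ▸ hLu) hcu
    · exact hdisj2 cu (e ▸ hLu) hcu
  haveI : IsCyclic ↥(T ⊓ lineGrp G L1) :=
    isCyclic_of_injective (inclusion (inf_le_left : T ⊓ lineGrp G L1 ≤ T)) (inclusion_injective _)
  rw [← IsCyclic.exponent_eq_card]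
  exact Monoid.exponent_dvd_of_forall_pow_eq_one fun x => Subtype.ext (hexp x x.2)

end Cfsg.Agent.RankOneClass.UniBound
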