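import Cfsg.Agent.RankOneClass.UniBound.Basic

/-!
Stage D: the cyclic tori of order `q + 1` of `Σ`.
-/

set_option autoImplicit false
set_option linter.unusedSectionVars false

open Subgroup MulAction
open scoped Pointwise

namespace Cfsg.Agent.RankOneClass.UniBound

open Cfsg.Agent.RankOne

universe u v

variable {G : Type u} {Ω : Type v} [Group G] [Finite G] [MulAction G Ω] {a : Ω} {t : G}
  {Q : Subgroup G} (hC : Ctx G Ω a t Q) (hL : Lines G a t Q)

include hC

theorem qq_even : Even (qq G a) := by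
  obtain ⟨f, hf, e⟩ := hC.exists_qq_pow
  rw [e]; exact Nat.even_pow.2 ⟨even_two, by omega⟩

theorem coprime_succ : (qq G a * (qq G a - 1)).Coprime (qq G a + 1) := by
  have he := qq_even hC
  have h4 := hC.four_le_qq
  refine Nat.Coprime.mul_left (Nat.coprime_self_add_right.2 (Nat.coprime_one_right _)) ?_
  rw [show qq G a + 1 = qq G a - 1 + 2 by omega, Nat.coprime_self_add_right, Nat.coprime_two_right]
  exact Nat.Even.sub_odd (by omega) he odd_one

include hL

theorem card_sig_stab {c : Ω} (hc : c ∈ line0 G a t) :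
    Nat.card (MulAction.stabilizer (sigGrp G a t) c) = qq G a * (qq G a - 1) := by
  haveI := finite_points hC.setup
  have horb : MulAction.orbit (sigGrp G a t) c = line0 G a t := by
    ext p
    constructor
    · rintro ⟨g, rfl⟩; exact smul_mem_line0 hC hL g.2 hc
    · intro hp
      obtain ⟨σ, hσ, e⟩ := exists_sig_to_a hC hL hc
      obtain ⟨τ, hτ, e'⟩ := exists_sig_to_a hC hL hp
      exact ⟨⟨τ⁻¹ * σ, mul_mem (inv_mem hτ) hσ⟩, show (τ⁻¹ * σ) • c = p by
        rw [mul_smul, e, ← e', inv_smul_smul]⟩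
  have h := (MulAction.stabilizer (sigGrp G a t) c).card_mul_index
  rw [MulAction.index_stabilizer, horb, hC.ncard_line0, hL.sig_card] at h
  refine Nat.eq_of_mul_eq_mul_right (Nat.succ_pos _) (h.trans ?_)
  have h4 := hC.four_le_qq
  rw [show qq G a ^ 2 - 1 = (qq G a - 1) * (qq G a + 1) by
    rw [mul_comm, ← Nat.sq_sub_sq, one_pow], ← mul_assoc]

theorem sig_free_torus {σ : G} (hσ : σ ∈ sigGrp G a t) (ho : orderOf σ ∣ qq G a + 1) {c : Ω}
    (hc : c ∈ line0 G a t) (hfix : σ • c = c) : σ = 1 := by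
  have h1 : orderOf σ ∣ qq G a * (qq G a - 1) := by
    rw [← card_sig_stab hC hL hc]
    have hm : (⟨σ, hσ⟩ : sigGrp G a t) ∈ MulAction.stabilizer (sigGrp G a t) c := hfix
    rw [show orderOf σ = orderOf (⟨⟨σ, hσ⟩, hm⟩ : MulAction.stabilizer (sigGrp G a t) c) by
      rw [← Subgroup.orderOf_coe, ← Subgroup.orderOf_coe]]
    exact orderOf_dvd_natCard _
  exact orderOf_eq_one_iff.1 (Nat.eq_one_of_dvd_coprimes (coprime_succ hC) h1 ho)

/-- A torus acts fixed-point-freely. -/
theorem torus_fpf {T : Subgroup G} (hT : T ≤ sigGrp G a t) (hcard : Nat.card T = qq G a + 1) {y : G}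
    (hy : y ∈ T) (hy1 : y ≠ 1) : Fpf Ω y := by
  intro p hp
  by_cases h : p ∈ line0 G a t
  · exact hy1 (sig_free_torus hC hL (hT hy) (hcard ▸ T.orderOf_dvd_natCard hy) h hp)
  · exact hy1 (hL.sig_free _ (hT hy) p h hp)

theorem exists_torus : ∃ T : Subgroup G, T ≤ sigGrp G a t ∧ IsCyclic T ∧ Nat.card T = qq G a + 1 := by
  haveI := finite_points hC.setup
  obtain ⟨p, hp⟩ : ∃ p, p ∉ line0 G a t := by
    by_contra h
    push_neg at h
    have h1 : (line0 G a t) = Set.univ := Set.eq_univ_of_forall h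
    have h2 := hC.ncard_line0
    rw [h1, Set.ncard_univ, card_points hC.setup] at h2
    have hq := card_dvd_of_le hC.zGrp_le
    obtain ⟨g, hg, hg1⟩ : ∃ g ∈ wGrp G a t, g ≠ 1 := by
      by_contra hh
      push_neg at hh
      have h3 := hL.w_three
      rw [(eq_bot_iff_forall _).2 hh, card_bot] at h3
      omega
    have hfix : ∀ c : Ω, g • c = c := fun c => by
      rcases Ctx.mem_line0.1 (h c) with rfl | ⟨z, hz, rfl⟩
      · exact (mem_twoPt.1 (hC.mem_wGrp.1 hg).1).1
      · rw [← mul_smul, ((hC.mem_wGrp.1 hg).2 z hz).eq, mul_smul, (mem_twoPt.1 (hC.mem_wGrp.1 hg).1).2]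
    haveI := hC.faithful
    exact hg1 (FaithfulSMul.eq_of_smul_eq_smul (α := Ω) fun c => by rw [hfix c, one_smul])
  obtain ⟨T, h1, h2, h3, -⟩ := hL.torus p hp
  exact ⟨T, h1, h2, h3⟩

/-- The centraliser in `Σ` of a fixed-point-free element has order at most `q + 1`. -/
theorem card_cent_le {x : G} (hx : x ∈ sigGrp G a t) (hf : Fpf Ω x) :
    Nat.card ↥(sigGrp G a t ⊓ centralizer {x}) ≤ qq G a + 1 := by
  haveI := finite_points hC.setup
  have hax : x • a ∈ line0 G a t := smul_mem_line0 hC hL hx (Ctx.a_mem_line0 a t)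
  rw [← hC.ncard_line0, ← Nat.card_coe_set_eq]
  refine Nat.card_le_card_of_injective
    (fun g : ↥(sigGrp G a t ⊓ centralizer {x}) => (⟨(g : G) • a, smul_mem_line0 hC hL g.2.1 (Ctx.a_mem_line0 a t)⟩ : line0 G a t))
    fun g g' e => ?_
  have e' : (g : G) • a = (g' : G) • a := congrArg Subtype.val e
  have hm : (g' : G)⁻¹ * g ∈ sigGrp G a t ⊓ centralizer {x} := mul_mem (inv_mem g'.2) g.2
  have hfa : ((g' : G)⁻¹ * g) • a = a := by rw [mul_smul, e', inv_smul_smul]
  have hc : Commute ((g' : G)⁻¹ * g) x := mem_centralizer_singleton_iff.1 hm.2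
  have hfix : ∀ p : Ω, ((g' : G)⁻¹ * g) • p = p → ((g' : G)⁻¹ * g) • x • p = x • p := fun p hp => by
    rw [← mul_smul, hc.eq, mul_smul, hp]
  have h1 := sig_three hC hL hm.1 (Ctx.a_mem_line0 a t) hax (hf a).symm
    (d := x • x • a) (fun h => Fpf.sq hC hf a (by rw [mul_smul]; exact h.symm))
    (fun h => hf a (MulAction.injective x h.symm)) hfa (hfix a hfa) (hfix _ (hfix a hfa))
  exact Subtype.ext (inv_mul_eq_one.1 h1).symm

end Cfsg.Agent.RankOneClass.UniBound

namespace Cfsg.Agent.RankOneClass.UniBound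

open Cfsg.Agent.RankOne

universe u v

variable {G : Type u} {Ω : Type v} [Group G] [Finite G] [MulAction G Ω] {a : Ω} {t : G}
  {Q : Subgroup G} (hC : Ctx G Ω a t Q) (hL : Lines G a t Q)

include hC hL

theorem cent_torus {T : Subgroup G} (hT : T ≤ sigGrp G a t) (hcyc : IsCyclic T)
    (hcard : Nat.card T = qq G a + 1) {y : G} (hy : y ∈ T) (hy1 : y ≠ 1) :
    sigGrp G a t ⊓ centralizer {y} = T := by
  have hle : T ≤ sigGrp G a t ⊓ centralizer {y} := fun g hg => mem_inf.2 ⟨hT hg,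
    mem_centralizer_singleton_iff.2 (by
      letI := hcyc.commGroup
      exact congrArg Subtype.val (mul_comm (⟨g, hg⟩ : T) ⟨y, hy⟩))⟩
  exact (eq_of_le_of_card_ge hle (hcard ▸ card_cent_le hC hL (hT hy) (torus_fpf hC hL hT hcard hy hy1))).symm

/-- A fixed-point-free element of `Σ` lies in a conjugate of a torus. -/
theorem exists_torus_mem {T : Subgroup G} (hT : T ≤ sigGrp G a t) (hcyc : IsCyclic T)
    (hcard : Nat.card T = qq G a + 1) {x : G} (hx : x ∈ sigGrp G a t) (hf : Fpf Ω x) :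
    ∃ σ ∈ sigGrp G a t, σ * x * σ⁻¹ ∈ T := by
  haveI := finite_points hC.setup
  obtain ⟨p, hp, hpdvd⟩ := Nat.exists_prime_and_dvd (n := orderOf x) (fun h =>
    hf.ne_one a (orderOf_eq_one_iff.1 h))
  haveI : Fact p.Prime := ⟨hp⟩
  obtain ⟨y, hy⟩ : ∃ y, y = x ^ (orderOf x / p) := ⟨_, rfl⟩
  have hyo : orderOf y = p := hy ▸ orderOf_pow_orderOf_div (orderOf_pos x).ne' hpdvd
  have hy1 : y ≠ 1 := fun e => hp.ne_one (by rw [← hyo, e, orderOf_one])
  have hyS : y ∈ sigGrp G a t := hy ▸ pow_mem hx _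
  have hxy : Commute x y := hy ▸ Commute.self_pow x _
  -- `y` has no fixed point on the circle, so `p ∣ q + 1`
  have hnofix : ∀ c ∈ line0 G a t, y • c ≠ c := by
    intro c hc hyc
    have hfix : ∀ b : Ω, y • b = b → y • x • b = x • b := fun b hb => by
      rw [← mul_smul, ← hxy.eq, mul_smul, hb]
    have hxc := smul_mem_line0 hC hL hx hc
    by_cases h3 : x • x • c = c
    · exact Fpf.sq hC hf c (by rw [mul_smul, h3])
    · exact hy1 (sig_three hC hL hyS hc hxc (hf c).symm (d := x • x • c) (fun e => h3 e.symm)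
        (fun e => hf c (MulAction.injective x e.symm)) hyc (hfix c hyc) (hfix _ (hfix c hyc)))
  have hpq : p ∣ qq G a + 1 := by
    let H : SubMulAction (zpowers y) Ω :=
      { carrier := line0 G a t
        smul_mem' := by
          rintro ⟨g, hg⟩ c hc
          exact smul_mem_line0 hC hL (zpowers_le.2 hyS hg) hc }
    have hP : IsPGroup p (zpowers y) := IsPGroup.of_card (n := 1) (by
      rw [Nat.card_zpowers, pow_one, hyo])
    by_contra hnd
    obtain ⟨c, hc⟩ := hP.nonempty_fixed_point_of_prime_not_dvd_card (α := H) (by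
      show ¬ p ∣ Nat.card ↥(line0 G a t)
      rwa [Nat.card_coe_set_eq, hC.ncard_line0])
    exact hnofix c c.2 (congrArg Subtype.val (hc ⟨y, mem_zpowers y⟩))
  -- Sylow
  obtain ⟨P⟩ : Nonempty (Sylow p T) := inferInstance
  have hPcard : Nat.card (((P : Subgroup T).map T.subtype).subgroupOf (sigGrp G a t)) =
      p ^ (Nat.card (sigGrp G a t)).factorization p := by
    rw [Nat.card_congr (subgroupOfEquivOfLe ((map_subtype_le _).trans hT)).toEquiv,
      card_map_of_injective T.subtype_injective, P.card_eq_multiplicity, hcard, hL.sig_card]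
    have h4 := hC.four_le_qq
    rw [show qq G a ^ 2 - 1 = (qq G a - 1) * (qq G a + 1) by rw [mul_comm, ← Nat.sq_sub_sq, one_pow],
      ← mul_assoc, Nat.factorization_mul (Nat.mul_ne_zero (by omega) (by omega)) (by omega),
      Finsupp.add_apply, Nat.factorization_eq_zero_of_not_dvd (fun h =>
        hp.ne_one (Nat.eq_one_of_dvd_coprimes (coprime_succ hC) h hpq)), zero_add]
  let P' : Sylow p (sigGrp G a t) := Sylow.ofCard _ hPcard
  obtain ⟨R, hR⟩ := (IsPGroup.of_card (p := p) (n := 1) (G := zpowers (⟨y, hyS⟩ : sigGrp G a t)) (by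
    rw [Nat.card_zpowers, Subgroup.orderOf_mk, pow_one, hyo])).exists_le_sylow
  obtain ⟨g, hg⟩ := MulAction.exists_smul_eq (sigGrp G a t) R P'
  have hgy : g * ⟨y, hyS⟩ * g⁻¹ ∈ (P' : Subgroup (sigGrp G a t)) := by
    rw [← hg, Sylow.coe_subgroup_smul]
    exact smul_mem_pointwise_smul _ (MulAut.conj g) _ (hR (mem_zpowers _))
  have hgyT : (g : G) * y * (g : G)⁻¹ ∈ T := map_subtype_le _ (mem_subgroupOf.1 hgy)
  refine ⟨g, g.2, ?_⟩
  rw [← cent_torus hC hL hT hcyc hcard hgyT (by rwa [ne_eq, conj_eq_one_iff])]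
  refine mem_inf.2 ⟨mul_mem (mul_mem g.2 hx) (inv_mem g.2), mem_centralizer_singleton_iff.2 ?_⟩
  calc (g : G) * x * (g : G)⁻¹ * ((g : G) * y * (g : G)⁻¹) = g * (x * y) * (g : G)⁻¹ := by group
    _ = g * (y * x) * (g : G)⁻¹ := by rw [hxy.eq]
    _ = _ := by group

theorem fpf_orderOf_dvd {x : G} (hx : x ∈ sigGrp G a t) (hf : Fpf Ω x) : orderOf x ∣ qq G a + 1 := by
  obtain ⟨T, hT, hcyc, hcard⟩ := exists_torus hC hL
  obtain ⟨σ, -, h⟩ := exists_torus_mem hC hL hT hcyc hcard hx hf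
  rw [← hcard, ← MulEquiv.orderOf_eq (MulAut.conj σ) x, MulAut.conj_apply]
  exact T.orderOf_dvd_natCard h

/-- The centraliser of the circle's stabiliser at a cyclic subgroup. -/
theorem exists_sig_norm {x : G} (hx : x ∈ sigGrp G a t) (hf : Fpf Ω x) {v : G}
    (hv : v • line0 G a t = line0 G a t) :
    ∃ σ ∈ sigGrp G a t, σ * v ∈ normalizer (zpowers x : Set G) := by
  obtain ⟨T, hT, hcyc, hcard⟩ := exists_torus hC hL
  obtain ⟨σ, hσ, h⟩ := exists_torus_mem hC hL hT hcyc hcard hx hf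
  have hx' : v * x * v⁻¹ ∈ sigGrp G a t := by
    have := conj_mem_lineGrp v (M := line0 G a t) ((lineGrp_line0 hC hL).symm ▸ hx)
    rw [hv, lineGrp_line0 hC hL] at this
    exact this
  obtain ⟨τ, hτ, h'⟩ := exists_torus_mem hC hL hT hcyc hcard hx' (hf.conj v)
  refine ⟨σ⁻¹ * τ, mul_mem (inv_mem hσ) hτ, ?_⟩
  -- two elements of the same order in the cyclic group generate the same subgroup
  haveI := hcyc
  have hord : orderOf (⟨_, h⟩ : T) = orderOf (⟨_, h'⟩ : T) := by
    rw [← Subgroup.orderOf_coe, ← Subgroup.orderOf_coe]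
    show orderOf (σ * x * σ⁻¹) = orderOf (τ * (v * x * v⁻¹) * τ⁻¹)
    simp only [← MulAut.conj_apply, MulEquiv.orderOf_eq]
  letI := hcyc.commGroup
  have key : ∀ w : T, zpowers w = (powMonoidHom (orderOf w) : T →* T).ker := fun w => by
    refine Subgroup.eq_of_le_of_card_ge (zpowers_le.2 (pow_orderOf_eq_one w)) ?_
    rw [IsCyclic.card_powMonoidHom_ker, Nat.card_zpowers, Nat.gcd_eq_right (orderOf_dvd_natCard w)]
  have heq : zpowers (⟨_, h⟩ : T) = zpowers (⟨_, h'⟩ : T) := by rw [key, key, hord]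
  have hmap : zpowers (σ * x * σ⁻¹) = zpowers (τ * (v * x * v⁻¹) * τ⁻¹) := by
    have := congrArg (Subgroup.map T.subtype) heq
    rwa [MonoidHom.map_zpowers, MonoidHom.map_zpowers] at this
  rw [mem_normalizer_iff]
  obtain ⟨g, hg⟩ : ∃ g, g = σ⁻¹ * τ * v := ⟨_, rfl⟩
  rw [← hg]
  have hgx : zpowers (g * x * g⁻¹) = zpowers x := by
    have := congrArg (Subgroup.map (MulAut.conj σ⁻¹).toMonoidHom) hmap
    rw [MonoidHom.map_zpowers, MonoidHom.map_zpowers] at this
    simp only [MulEquiv.coe_toMonoidHom, MulAut.conj_apply] at this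
    rw [show σ⁻¹ * (σ * x * σ⁻¹) * σ⁻¹⁻¹ = x by group,
      show σ⁻¹ * (τ * (v * x * v⁻¹) * τ⁻¹) * σ⁻¹⁻¹ = g * x * g⁻¹ by rw [hg]; group] at this
    exact this.symm
  intro w
  constructor
  · intro hw
    obtain ⟨k, rfl⟩ := mem_zpowers_iff.1 hw
    rw [← conj_zpow, ← hgx]
    exact zpow_mem (mem_zpowers _) k
  · intro hw
    rw [← hgx] at hw
    obtain ⟨k, hk⟩ := mem_zpowers_iff.1 hw
    rw [conj_zpow] at hk
    exact ⟨k, (mul_left_cancel (mul_right_cancel hk))⟩

end Cfsg.Agent.RankOneClass.UniBound
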